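import Mathlib.Algebra.Order.BigOperators.Ring.Finset
import Mathlib.Algebra.BigOperators.Fin
import Mathlib.Data.ZMod.Basic
import Mathlib.Tactic.LinearCombination
import Mathlib.Tactic.Linarith

/-!
# Case A, all inverted: integer vectors of small norm
-/

set_option autoImplicit false
set_option linter.unusedSectionVars false

namespace CfsgLib.GW.CaseA.Inverted

variable {ι : Type*} [Fintype ι]

theorem abs_le_one_of_norm_three {a : ι → ℤ} (h : ∑ x, a x ^ 2 = 3) (x : ι) : -1 ≤ a x ∧ a x ≤ 1 := by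
  have h1 : a x ^ 2 ≤ 3 := h ▸ Finset.single_le_sum (fun i _ => sq_nonneg (a i)) (Finset.mem_univ x)
  constructor <;> nlinarith

/-- norm four with weights positive and weighted sum zero: the entries are at most one -/
theorem abs_le_one_of_norm_four {b : ι → ℤ} (h : ∑ x, b x ^ 2 = 4) {d : ι → ℤ} (hd : ∀ x, 0 < d x)
    (h0 : ∑ x, b x * d x = 0) (x : ι) : -1 ≤ b x ∧ b x ≤ 1 := by
  classical
  by_contra hc
  have h4 : 4 ≤ b x ^ 2 := by
    have : b x ≤ -2 ∨ 2 ≤ b x := by omega
    rcases this with h2 | h2 <;> nlinarith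
  have hsplit := Finset.add_sum_erase Finset.univ (fun i => b i ^ 2) (Finset.mem_univ x)
  simp only [h] at hsplit
  have hrest : ∀ i ∈ Finset.univ.erase x, b i ^ 2 = 0 := (Finset.sum_eq_zero_iff_of_nonneg fun i _ => sq_nonneg _).1
    (le_antisymm (by linarith) (Finset.sum_nonneg fun i _ => sq_nonneg _))
  rw [Finset.sum_eq_single x (fun i _ hi => by
      rw [pow_eq_zero_iff two_ne_zero |>.1 (hrest i (Finset.mem_erase.2 ⟨hi, Finset.mem_univ _⟩)), zero_mul])
    (fun e => absurd (Finset.mem_univ x) e)] at h0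
  rcases mul_eq_zero.1 h0 with e | e
  · rw [e] at h4; norm_num at h4
  · exact (hd x).ne' e

/-- a norm two vector orthogonal to `a` meeting its support lies inside it -/
theorem support_le_of_norm_two {a v : ι → ℤ} (h2 : ∑ x, v x ^ 2 = 2) (h0 : ∑ x, a x * v x = 0) {χ : ι}
    (ha : a χ ≠ 0) (hv : v χ ≠ 0) (ψ : ι) (hψ : a ψ = 0) : v ψ = 0 := by
  classical
  by_contra hne
  have hχψ : χ ≠ ψ := fun e => ha (e ▸ hψ)
  have hone : ∀ {z : ℤ}, z ≠ 0 → 1 ≤ z ^ 2 := fun {z} hz => by
    have := pow_ne_zero 2 hz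
    have := sq_nonneg z
    omega
  have hsub : ({χ, ψ} : Finset ι) ⊆ Finset.univ := Finset.subset_univ _
  have hs := Finset.sum_sdiff hsub (f := fun x => v x ^ 2)
  rw [Finset.sum_pair hχψ, h2] at hs
  have hnn := Finset.sum_nonneg (s := Finset.univ \ {χ, ψ}) (fun i _ => sq_nonneg (v i))
  have hrest : ∀ i ∈ Finset.univ \ ({χ, ψ} : Finset ι), v i ^ 2 = 0 :=
    (Finset.sum_eq_zero_iff_of_nonneg fun i _ => sq_nonneg _).1
      (le_antisymm (by linarith [hone hv, hone hne]) hnn)
  rw [Finset.sum_eq_single χ (fun i _ hi => by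
      by_cases hiψ : i = ψ
      · rw [hiψ, hψ, zero_mul]
      · rw [pow_eq_zero_iff two_ne_zero |>.1 (hrest i (by simp [hi, hiψ])), mul_zero])
    (fun e => absurd (Finset.mem_univ χ) e)] at h0
  rcases mul_eq_zero.1 h0 with e | e
  exacts [ha e, hv e]

theorem support_three {a : ι → ℤ} (h : ∑ x, a x ^ 2 = 3) :
    ∃ U V W, U ≠ V ∧ U ≠ W ∧ V ≠ W ∧ ∀ x, a x ≠ 0 ↔ x = U ∨ x = V ∨ x = W := by
  classical
  have hc : (Finset.univ.filter fun x => a x ≠ 0).card = 3 := by
    have hz : (((Finset.univ.filter fun x => a x ≠ 0).card : ℕ) : ℤ) = 3 := by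
      rw [← h, Finset.card_filter, Nat.cast_sum]
      refine Finset.sum_congr rfl fun x _ => ?_
      obtain ⟨h1, h2⟩ := abs_le_one_of_norm_three h x
      obtain e | e | e : a x = -1 ∨ a x = 0 ∨ a x = 1 := by omega
      all_goals simp [e]
    exact_mod_cast hz
  obtain ⟨U, V, W, h1, h2, h3, he⟩ := Finset.card_eq_three.1 hc
  refine ⟨U, V, W, h1, h2, h3, fun x => ?_⟩
  have := Finset.ext_iff.1 he x
  simpa using this

theorem sum_support_three {a : ι → ℤ} {U V W : ι} (hUV : U ≠ V) (hUW : U ≠ W) (hVW : V ≠ W)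
    (hT : ∀ x, a x ≠ 0 ↔ x = U ∨ x = V ∨ x = W) (f : ι → ℤ) (hf : ∀ x, a x = 0 → f x = 0) :
    ∑ x, f x = f U + f V + f W := by
  classical
  rw [← Finset.sum_subset (s₁ := {U, V, W}) (Finset.subset_univ _) fun x _ hx => hf x (by
    by_contra hne
    exact hx (by simpa using (hT x).1 hne))]
  rw [Finset.sum_insert (by simp [hUV, hUW]), Finset.sum_pair hVW]
  ring

/-- three roots with mutual product one do not fit into a hexagonal lattice -/
theorem no_three_roots {a x y z : ι → ℤ} (ha : ∑ i, a i ^ 2 = 3) (hx : ∑ i, x i ^ 2 = 2) (hy : ∑ i, y i ^ 2 = 2)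
    (hz : ∑ i, z i ^ 2 = 2) (hxy : ∑ i, x i * y i = 1) (hxz : ∑ i, x i * z i = 1) (hyz : ∑ i, y i * z i = 1)
    (hax : ∑ i, a i * x i = 0) (hay : ∑ i, a i * y i = 0) (haz : ∑ i, a i * z i = 0) (χ : ι) (hχ : a χ ≠ 0) :
    x χ = 0 := by
  classical
  by_contra hxχ
  obtain ⟨U, V, W, hUV, hUW, hVW, hT⟩ := support_three ha
  have hxs := support_le_of_norm_two hx hax hχ hxχ
  have meet : ∀ v : ι → ℤ, ∑ i, x i * v i = 1 → ∃ i, a i ≠ 0 ∧ v i ≠ 0 := fun v hv => by
    by_contra hne
    push_neg at hne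
    rw [Finset.sum_eq_zero fun i _ => ?_] at hv
    · exact zero_ne_one hv
    · by_cases hi : a i = 0
      · rw [hxs i hi, zero_mul]
      · rw [hne i hi, mul_zero]
  obtain ⟨i, hi1, hi2⟩ := meet y hxy
  have hys := support_le_of_norm_two hy hay hi1 hi2
  obtain ⟨j, hj1, hj2⟩ := meet z hxz
  have hzs := support_le_of_norm_two hz haz hj1 hj2
  have S := sum_support_three hUV hUW hVW hT
  rw [S _ fun i hi => by rw [hxs i hi]; ring] at hx hax hxy hxz
  rw [S _ fun i hi => by rw [hys i hi]; ring] at hy hay hyz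
  rw [S _ fun i hi => by rw [hzs i hi]; ring] at hz haz
  set D := x U * (y V * z W - y W * z V) - x V * (y U * z W - y W * z U) + x W * (y U * z V - y V * z U) with hD
  have h0 : D * a U = 0 := by
    rw [hD]
    linear_combination (y V * z W - y W * z V) * hax + (z V * x W - z W * x V) * hay + (x V * y W - x W * y V) * haz
  have hD0 : D = 0 := (mul_eq_zero.1 h0).resolve_right ((hT U).2 (Or.inl rfl))
  have hgram : D ^ 2 = (x U ^ 2 + x V ^ 2 + x W ^ 2) * ((y U ^ 2 + y V ^ 2 + y W ^ 2) * (z U ^ 2 + z V ^ 2 + z W ^ 2) -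
      (y U * z U + y V * z V + y W * z W) ^ 2) -
    (x U * y U + x V * y V + x W * y W) * ((x U * y U + x V * y V + x W * y W) * (z U ^ 2 + z V ^ 2 + z W ^ 2) -
      (y U * z U + y V * z V + y W * z W) * (x U * z U + x V * z V + x W * z W)) +
    (x U * z U + x V * z V + x W * z W) * ((x U * y U + x V * y V + x W * y W) * (y U * z U + y V * z V + y W * z W) -
      (y U ^ 2 + y V ^ 2 + y W ^ 2) * (x U * z U + x V * z V + x W * z W)) := by rw [hD]; ring
  rw [hD0, hx, hy, hz, hxy, hxz, hyz] at hgram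
  norm_num at hgram

/-- in `a` of norm three and `b` with product two at most one common index has `b = 0` -/
theorem unique_zero {a b : ι → ℤ} (ha : ∑ i, a i ^ 2 = 3) (hb : ∀ i, -1 ≤ b i ∧ b i ≤ 1)
    (hab : ∑ i, a i * b i = 2) {χ ψ : ι} (hχ : a χ ≠ 0) (hψ : a ψ ≠ 0) (bχ : b χ = 0) (bψ : b ψ = 0) : χ = ψ := by
  obtain ⟨U, V, W, hUV, hUW, hVW, hT⟩ := support_three ha
  rw [sum_support_three hUV hUW hVW hT _ fun i hi => by rw [hi, zero_mul]] at hab
  by_contra hne
  have hle : ∀ i, a i * b i ≤ 1 := fun i => by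
    obtain ⟨h1, h2⟩ := abs_le_one_of_norm_three ha i
    obtain ⟨h3, h4⟩ := hb i
    obtain e | e | e : a i = -1 ∨ a i = 0 ∨ a i = 1 := by omega
    all_goals rw [e]; omega
  have zχ : a χ * b χ = 0 := by rw [bχ, mul_zero]
  have zψ : a ψ * b ψ = 0 := by rw [bψ, mul_zero]
  have lU := hle U
  have lV := hle V
  have lW := hle W
  rcases (hT χ).1 hχ with e | e | e <;> rcases (hT ψ).1 hψ with e' | e' | e' <;>
    first | exact hne (e.trans e'.symm) | (rw [e] at zχ; rw [e'] at zψ; linarith)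

/-- the sum of a function even about `h` on `range (2 h)` has the parity of its two fixed terms -/
theorem even_sum_range_symm {h : ℕ} (hh : 0 < h) (f : ℕ → ℕ) (hf : ∀ i, 0 < i → i < 2 * h → f (2 * h - i) = f i) :
    (Odd (∑ i ∈ Finset.range (2 * h), f i) ↔ Odd (f 0 + f h)) := by
  classical
  have key : ((∑ i ∈ Finset.range (2 * h), f i : ℕ) : ZMod 2) = ((f 0 + f h : ℕ) : ZMod 2) := by
    have hsub : ({0, h} : Finset ℕ) ⊆ Finset.range (2 * h) := by
      intro i hi
      simp only [Finset.mem_insert, Finset.mem_singleton] at hi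
      rw [Finset.mem_range]
      omega
    push_cast
    rw [← Finset.sum_sdiff hsub, Finset.sum_pair (by omega : (0 : ℕ) ≠ h)]
    have hmem : ∀ i ∈ Finset.range (2 * h) \ ({0, h} : Finset ℕ), 0 < i ∧ i < 2 * h ∧ i ≠ h := fun i hi => by
      simp only [Finset.mem_sdiff, Finset.mem_range, Finset.mem_insert, Finset.mem_singleton, not_or] at hi
      omega
    rw [Finset.sum_involution (fun i _ => 2 * h - i) (fun i hi => by
        obtain ⟨h1, h2, -⟩ := hmem i hi
        rw [hf i h1 h2]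
        exact CharTwo.add_self_eq_zero _)
      (fun i hi _ e => by obtain ⟨h1, h2, h3⟩ := hmem i hi; omega)
      (fun i hi => by
        obtain ⟨h1, h2, h3⟩ := hmem i hi
        simp only [Finset.mem_sdiff, Finset.mem_range, Finset.mem_insert, Finset.mem_singleton, not_or]
        omega)
      (fun i hi => by obtain ⟨h1, h2, -⟩ := hmem i hi; omega), zero_add]
  rw [← ZMod.natCast_eq_one_iff_odd, key, ZMod.natCast_eq_one_iff_odd]

end CfsgLib.GW.CaseA.Inverted
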