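import Cfsg.Agent.Lib.Char.Integrality
import Mathlib.GroupTheory.PGroup

/-!
# Case A, all inverted: congruences modulo two for central characters

For a 2-subgroup `P` normalising a class sum, only the terms fixed by `P` count modulo two.  Hence two
irreducible characters of a subgroup `D ≤ C(P)` without fusion that occur with odd multiplicity in one
irreducible character of `G` are equal, provided `D` has odd order.
-/

set_option autoImplicit false
set_option linter.unusedSectionVars false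
set_option linter.style.haveILetI false

namespace CfsgLib.GW.CaseA.Inverted

open scoped ComplexConjugate
open Representation Cfsg CfsgLib.Char

universe u

variable {G : Type u} [Group G]

/-- twice an algebraic integer -/
def TwoDvd (z : ℂ) : Prop := ∃ w : ℂ, IsIntegral ℤ w ∧ z = 2 * w

theorem TwoDvd.zero : TwoDvd 0 := ⟨0, isIntegral_zero, by ring⟩

theorem TwoDvd.add {a b : ℂ} (ha : TwoDvd a) (hb : TwoDvd b) : TwoDvd (a + b) := by
  obtain ⟨x, hx, rfl⟩ := ha
  obtain ⟨y, hy, rfl⟩ := hb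
  exact ⟨x + y, hx.add hy, by ring⟩

theorem TwoDvd.neg {a : ℂ} (ha : TwoDvd a) : TwoDvd (-a) := by
  obtain ⟨x, hx, rfl⟩ := ha
  exact ⟨-x, hx.neg, by ring⟩

theorem TwoDvd.sub {a b : ℂ} (ha : TwoDvd a) (hb : TwoDvd b) : TwoDvd (a - b) := by
  rw [sub_eq_add_neg]
  exact ha.add hb.neg

theorem TwoDvd.mul_left {a c : ℂ} (hc : IsIntegral ℤ c) (ha : TwoDvd a) : TwoDvd (c * a) := by
  obtain ⟨x, hx, rfl⟩ := ha
  exact ⟨c * x, hc.mul hx, by ring⟩

theorem TwoDvd.sum {ι : Type*} (s : Finset ι) {f : ι → ℂ} (h : ∀ i ∈ s, TwoDvd (f i)) :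
    TwoDvd (∑ i ∈ s, f i) := by
  classical
  induction s using Finset.induction_on with
  | empty => simpa using TwoDvd.zero
  | insert a s ha ih =>
    rw [Finset.sum_insert ha]
    exact (h a (Finset.mem_insert_self _ _)).add (ih fun i hi => h i (Finset.mem_insert_of_mem hi))

theorem isIntegral_natCast (n : ℕ) : IsIntegral ℤ (n : ℂ) := by
  simpa using (isIntegral_algebraMap (R := ℤ) (A := ℂ) (x := (n : ℤ)))

/-- an odd natural number is not twice an algebraic integer -/
theorem not_twoDvd_odd {n : ℕ} (hn : Odd n) : ¬ TwoDvd (n : ℂ) := by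
  rintro ⟨w, hw, e⟩
  have hq : w = algebraMap ℚ ℂ ((n : ℚ) / 2) := by
    rw [map_div₀, map_natCast, map_ofNat, eq_div_iff two_ne_zero, e, mul_comm]
  rw [hq, isIntegral_algebraMap_iff (algebraMap ℚ ℂ).injective, IsIntegrallyClosed.isIntegral_iff] at hw
  obtain ⟨m, hm⟩ := hw
  rw [eq_div_iff two_ne_zero, eq_intCast] at hm
  have : m * 2 = (n : ℤ) := by exact_mod_cast hm
  obtain ⟨j, rfl⟩ := hn
  omega

theorem twoDvd_of_odd_mul {n : ℕ} (hn : Odd n) {z : ℂ} (hz : IsIntegral ℤ z) (h : TwoDvd ((n : ℂ) * z)) :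
    TwoDvd z := by
  obtain ⟨j, rfl⟩ := hn
  have e : z = ((2 * j + 1 : ℕ) : ℂ) * z - (j : ℂ) * (2 * z) := by push_cast; ring
  rw [e]
  exact h.sub (TwoDvd.mul_left (isIntegral_natCast j) ⟨z, hz, rfl⟩)

/-- modulo two only the fixed points of a 2-group count -/
theorem twoDvd_sum_sub_fixed [Finite G] (P : Subgroup G) (hP : IsPGroup 2 P) (K : Finset G) {f : G → ℂ}
    (hint : ∀ k ∈ K, IsIntegral ℤ (f k)) (hK : ∀ p ∈ P, ∀ k ∈ K, p * k * p⁻¹ ∈ K)
    (hf : ∀ p ∈ P, ∀ k ∈ K, f (p * k * p⁻¹) = f k) (F : Finset G)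
    (hmem : ∀ x, x ∈ F ↔ x ∈ K ∧ ∀ p ∈ P, p * x * p⁻¹ = x) :
    TwoDvd (∑ k ∈ K, f k - ∑ k ∈ F, f k) := by
  classical
  haveI : Fact (Nat.Prime 2) := ⟨Nat.prime_two⟩
  haveI := Fintype.ofFinite G
  induction hn : K.card using Nat.strong_induction_on generalizing K with
  | _ n ih =>
  subst hn
  by_cases hfix : ∀ k ∈ K, ∀ p ∈ P, p * k * p⁻¹ = k
  · rw [show F = K from Finset.ext fun x => (hmem x).trans ⟨fun h => h.1, fun h => ⟨h, hfix x h⟩⟩, sub_self]
    exact TwoDvd.zero
  push_neg at hfix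
  obtain ⟨k, hk, q, hq, hne⟩ := hfix
  set O := K.filter (fun x => ∃ p ∈ P, p * k * p⁻¹ = x) with hO
  have hsub : O ⊆ K := Finset.filter_subset _ _
  have hkO : k ∈ O := Finset.mem_filter.2 ⟨hk, 1, P.one_mem, by group⟩
  -- the orbit has even size
  letI act : MulAction P G := MulAction.compHom G ((MulAut.conj : G →* MulAut G).comp P.subtype)
  have hsmul : ∀ (p : P) (x : G), p • x = (p : G) * x * (p : G)⁻¹ := fun p x => rfl
  have hcard : O.card = Nat.card (MulAction.orbit P k) := by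
    have e : (O : Set G) = MulAction.orbit P k := by
      ext x
      simp only [hO, Finset.coe_filter, Set.mem_setOf_eq, MulAction.mem_orbit_iff, hsmul]
      exact ⟨fun ⟨_, p, hp, e⟩ => ⟨⟨p, hp⟩, e⟩, fun ⟨p, e⟩ => ⟨e ▸ hK _ p.2 k hk, p, p.2, e⟩⟩
    rw [← e, Nat.card_coe_set_eq, Set.ncard_coe_finset]
  obtain ⟨m, hm⟩ := hP.card_orbit k
  have hev : 2 ∣ O.card := by
    rw [hcard, hm]
    refine dvd_pow_self 2 fun h0 => ?_
    subst h0
    rw [pow_zero] at hm
    rw [hm] at hcard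
    obtain ⟨x, hx⟩ := Finset.card_eq_one.1 hcard
    have h1 : q * k * q⁻¹ ∈ O := Finset.mem_filter.2 ⟨hK q hq k hk, q, hq, rfl⟩
    rw [hx, Finset.mem_singleton] at h1 hkO
    exact hne (h1.trans hkO.symm)
  have hstab : ∀ p ∈ P, ∀ x ∈ K \ O, p * x * p⁻¹ ∈ K \ O := fun p hp x hx => by
    rw [Finset.mem_sdiff] at hx ⊢
    refine ⟨hK p hp x hx.1, fun h => hx.2 ?_⟩
    obtain ⟨-, r, hr, e⟩ := Finset.mem_filter.1 h
    exact Finset.mem_filter.2 ⟨hx.1, p⁻¹ * r, P.mul_mem (P.inv_mem hp) hr, by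
      calc p⁻¹ * r * k * (p⁻¹ * r)⁻¹ = p⁻¹ * (r * k * r⁻¹) * p := by group
        _ = x := by rw [e]; group⟩
  have hlt : (K \ O).card < K.card :=
    Finset.card_lt_card (Finset.sdiff_ssubset hsub ⟨k, hkO⟩)
  have hF : ∀ x, x ∈ F ↔ x ∈ K \ O ∧ ∀ p ∈ P, p * x * p⁻¹ = x := fun x => by
    rw [hmem, Finset.mem_sdiff]
    refine ⟨fun h => ⟨⟨h.1, fun hx => ?_⟩, h.2⟩, fun h => ⟨h.1.1, h.2⟩⟩
    obtain ⟨-, p, hp, e⟩ := Finset.mem_filter.1 hx
    have h' := h.2 p⁻¹ (P.inv_mem hp)
    rw [← e, show p⁻¹ * (p * k * p⁻¹) * p⁻¹⁻¹ = k by group] at h'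
    have hxk : x = k := by rw [← e, ← h']
    exact hne (by rw [← hxk]; exact h.2 q hq)
  have h1 := ih _ hlt (K \ O) (fun x hx => hint x (Finset.mem_sdiff.1 hx).1) hstab
    (fun p hp x hx => hf p hp x (Finset.mem_sdiff.1 hx).1) hF rfl
  have hsum : ∑ x ∈ O, f x = (O.card : ℂ) * f k := by
    rw [Finset.sum_congr rfl (g := fun _ => f k) fun x hx => ?_, Finset.sum_const, nsmul_eq_mul]
    obtain ⟨-, p, hp, e⟩ := Finset.mem_filter.1 hx
    rw [← e]
    exact hf p hp k hk
  obtain ⟨c, hc⟩ := hev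
  have h2 : TwoDvd (∑ x ∈ O, f x) :=
    ⟨(c : ℂ) * f k, (isIntegral_natCast c).mul (hint k hk), by rw [hsum, hc]; push_cast; ring⟩
  rw [← Finset.sum_sdiff hsub]
  have := h1.add h2
  convert this using 1
  ring

/-- the value of the central character at a class, times a value, is a sum over the class -/
theorem omega_mul_apply [Fintype G] (χ : IrrCharacter G) (d x : G) [DecidablePred (IsConj d)] :
    omega (χ : G → ℂ) d * (χ : G → ℂ) x =
      ∑ k ∈ Finset.univ.filter (IsConj d), (χ : G → ℂ) (k * x) := by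
  classical
  obtain ⟨χ, n, ρ, hρ, rfl⟩ := χ
  have h := congrArg (fun T : (Fin n → ℂ) →ₗ[ℂ] (Fin n → ℂ) => LinearMap.trace ℂ _ (T * ρ x)) (classOp_eq ρ d)
  simp only [classOp, Finset.sum_mul, map_sum, smul_mul_assoc, map_smul, smul_eq_mul] at h
  rw [show (LinearMap.id : (Fin n → ℂ) →ₗ[ℂ] (Fin n → ℂ)) = 1 from rfl, one_mul] at h
  show omega ρ.character d * LinearMap.trace ℂ _ (ρ x) = _
  rw [← h, Finset.sum_filter]
  refine Finset.sum_congr rfl fun k _ => ?_
  by_cases hk : IsConj d k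
  · rw [if_pos hk, if_pos hk, ← map_mul]; rfl
  · rw [if_neg hk, if_neg hk, zero_mul, map_zero]

/-- convolution orthogonality -/
theorem sum_mul_shift_conj [Fintype G] (η η' : IrrCharacter G) [Decidable (η = η')] (k : G) :
    ∑ x : G, (η : G → ℂ) (k * x) * conj ((η' : G → ℂ) x) =
      if η = η' then (Nat.card G : ℂ) * (η : G → ℂ) k / (η : G → ℂ) 1 else 0 := by
  classical
  obtain ⟨e, n, ρ, hρ, he⟩ := η
  subst he
  have hη' := isClassFunction_irr η'
  obtain ⟨c, hc⟩ := schur_scalar ρ (∑ x : G, conj ((η' : G → ℂ) x) • ρ x) fun g => by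
    simp only [Finset.sum_mul, Finset.mul_sum, smul_mul_assoc, mul_smul_comm, ← map_mul]
    refine Fintype.sum_bijective (fun y => g⁻¹ * y * g⁻¹⁻¹) (MulAut.conj g⁻¹).bijective _ _ fun y => ?_
    rw [hη' y g⁻¹, show g * (g⁻¹ * y * g⁻¹⁻¹) = y * g by group]
  have htr := congrArg (LinearMap.trace ℂ _) hc
  rw [trace_smul_id, map_sum] at htr
  have hval : ∀ y, LinearMap.trace ℂ _ (conj ((η' : G → ℂ) y) • ρ y) =
      ρ.character y * conj ((η' : G → ℂ) y) := fun y => by
    rw [map_smul, smul_eq_mul, mul_comm]; rfl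
  have hci := classInner_irr (G := G) ⟨_, n, ρ, hρ, rfl⟩ η'
  rw [classInner] at hci
  have hG := card_ne_zero' (G := G)
  rw [Finset.sum_congr rfl fun y _ => hval y, ← Representation.char_one ρ] at htr
  rw [inv_mul_eq_iff_eq_mul₀ hG] at hci
  rw [hci] at htr
  have h1 : ρ.character 1 ≠ 0 := irr_one_ne_zero ⟨_, n, ρ, hρ, rfl⟩
  have hk := congrArg (fun T : (Fin n → ℂ) →ₗ[ℂ] (Fin n → ℂ) => LinearMap.trace ℂ _ (ρ k * T)) hc
  simp only [Finset.mul_sum, mul_smul_comm, ← map_mul, map_sum, map_smul, smul_eq_mul] at hk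
  rw [show (LinearMap.id : (Fin n → ℂ) →ₗ[ℂ] (Fin n → ℂ)) = 1 from rfl, mul_one] at hk
  have hk' : ∑ y : G, ρ.character (k * y) * conj ((η' : G → ℂ) y) = c * ρ.character k := by
    rw [show ρ.character k = LinearMap.trace ℂ _ (ρ k) from rfl, ← hk]
    exact Finset.sum_congr rfl fun y _ => mul_comm _ _
  show ∑ y : G, ρ.character (k * y) * conj ((η' : G → ℂ) y) = _
  rw [hk']
  split_ifs at htr ⊢ with h
  · rw [eq_div_iff h1]
    linear_combination -(ρ.character k) * htr
  · rw [mul_zero, eq_comm, mul_eq_zero] at htr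
    rw [htr.resolve_right h1, zero_mul]

/-- the congruence of the two sides of the central character equation, projected on a constituent -/
theorem twoDvd_omega_sub [Fintype G] (P D : Subgroup G) [Fintype D] (hP : IsPGroup 2 P) (hD : Odd (Nat.card D))
    (hPD : ∀ p ∈ P, ∀ x ∈ D, Commute p x)
    (hfus : ∀ d ∈ D, ∀ k : G, IsConj d k → (∀ p ∈ P, Commute p k) → ∃ e ∈ D, e * d * e⁻¹ = k)
    (χ : IrrCharacter G) (η : IrrCharacter D) {n : ℕ}
    (hn : classInner (fun x : D => (χ : G → ℂ) x) (η : D → ℂ) = (n : ℂ)) (hodd : Odd n) (d : D) :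
    TwoDvd (omega (χ : G → ℂ) (d : G) - omega (η : D → ℂ) d) := by
  classical
  set K := Finset.univ.filter (IsConj (d : G)) with hK
  set C := (Finset.univ : Finset D).filter (IsConj d) with hC
  have hstep : ∀ x : D, TwoDvd (omega (χ : G → ℂ) (d : G) * (χ : G → ℂ) x -
      ∑ k ∈ C, (χ : G → ℂ) ((k : G) * x)) := by
    intro x
    rw [omega_mul_apply]
    have hcomm : ∀ p ∈ P, ∀ k : G, p * k * p⁻¹ * (x : G) = p * (k * x) * p⁻¹ := fun p hp k => by
      have e : p * (x : G) * p⁻¹ = x := by rw [(hPD p hp x x.2).eq, mul_inv_cancel_right]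
      nth_rewrite 1 [← e]
      group
    have himg : ∀ k, k ∈ C.image (fun k : D => (k : G)) ↔ k ∈ K ∧ ∀ p ∈ P, p * k * p⁻¹ = k := by
      intro k
      simp only [hC, hK, Finset.mem_image, Finset.mem_filter, Finset.mem_univ, true_and]
      constructor
      · rintro ⟨j, hj, rfl⟩
        obtain ⟨e, he⟩ := isConj_iff.1 hj
        refine ⟨isConj_iff.2 ⟨(e : G), congrArg Subtype.val he⟩, fun p hp => ?_⟩
        rw [(hPD p hp j j.2).eq, mul_inv_cancel_right]
      · rintro ⟨hk, hfix⟩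
        obtain ⟨e, he, hek⟩ := hfus d d.2 k hk fun p hp => mul_inv_eq_iff_eq_mul.1 (hfix p hp)
        exact ⟨⟨e, he⟩ * d * (⟨e, he⟩ : D)⁻¹, isConj_iff.2 ⟨_, rfl⟩, hek⟩
    have h := twoDvd_sum_sub_fixed P hP K (f := fun k => (χ : G → ℂ) (k * x))
      (fun k _ => isCharacter_isIntegral (isCharacter_irr χ) _)
      (fun p _ k hk => by
        simp only [hK, Finset.mem_filter, Finset.mem_univ, true_and] at hk ⊢
        exact hk.trans (isConj_iff.2 ⟨p, rfl⟩))
      (fun p hp k _ => by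
        show (χ : G → ℂ) (p * k * p⁻¹ * x) = _
        rw [hcomm p hp k, isClassFunction_irr χ _ p])
      (C.image fun k : D => (k : G)) himg
    rw [Finset.sum_image fun a _ b _ e => Subtype.ext e] at h
    exact h
  have hsum : TwoDvd (∑ x : D, conj ((η : D → ℂ) x) * (omega (χ : G → ℂ) (d : G) * (χ : G → ℂ) x -
      ∑ k ∈ C, (χ : G → ℂ) ((k : G) * x))) :=
    TwoDvd.sum _ fun x _ => (hstep x).mul_left (by
      rw [← irr_inv]; exact isCharacter_isIntegral (isCharacter_irr η) _)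
  haveI := Fintype.ofFinite (IrrCharacter D)
  have hχD : IsCharacter D (fun x : D => (χ : G → ℂ) x) := isCharacter_comp (isCharacter_irr χ) D.subtype
  have hexp := classFun_expand (isClassFunction_of_isCharacter hχD)
  have hDc := card_ne_zero' (G := D)
  have e1 : ∑ x : D, conj ((η : D → ℂ) x) * (χ : G → ℂ) x = (Nat.card D : ℂ) * (n : ℂ) := by
    rw [← hn, classInner, ← mul_assoc, mul_inv_cancel₀ hDc, one_mul]
    exact Finset.sum_congr rfl fun x _ => mul_comm _ _
  have e2 : ∀ k : D, ∑ x : D, conj ((η : D → ℂ) x) * (χ : G → ℂ) ((k : G) * x) =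
      (n : ℂ) * ((Nat.card D : ℂ) * (η : D → ℂ) k / (η : D → ℂ) 1) := by
    intro k
    have hk : ∀ x : D, (χ : G → ℂ) ((k : G) * x) = ∑ ν : IrrCharacter D,
        classInner (fun x : D => (χ : G → ℂ) x) (ν : D → ℂ) * (ν : D → ℂ) (k * x) := fun x => by
      have := congrFun hexp (k * x)
      simpa [Finset.sum_apply] using this
    simp only [hk, Finset.mul_sum]
    rw [Finset.sum_comm, Finset.sum_eq_single η]
    · rw [hn]
      have hs := sum_mul_shift_conj η η k
      rw [if_pos rfl] at hs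
      rw [← hs, Finset.mul_sum]
      exact Finset.sum_congr rfl fun x _ => by ring
    · intro ν _ hν
      have hs := sum_mul_shift_conj ν η k
      rw [if_neg hν] at hs
      calc ∑ x : D, conj ((η : D → ℂ) x) * (classInner (fun x : D => (χ : G → ℂ) x) (ν : D → ℂ) *
            (ν : D → ℂ) (k * x))
          = classInner (fun x : D => (χ : G → ℂ) x) (ν : D → ℂ) *
              ∑ x : D, (ν : D → ℂ) (k * x) * conj ((η : D → ℂ) x) := by
            rw [Finset.mul_sum]; exact Finset.sum_congr rfl fun x _ => by ring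
        _ = 0 := by rw [hs, mul_zero]
    · exact fun h => absurd (Finset.mem_univ η) h
  have hval : ∑ x : D, conj ((η : D → ℂ) x) * (omega (χ : G → ℂ) (d : G) * (χ : G → ℂ) x -
      ∑ k ∈ C, (χ : G → ℂ) ((k : G) * x)) =
      ((Nat.card D * n : ℕ) : ℂ) * (omega (χ : G → ℂ) (d : G) - omega (η : D → ℂ) d) := by
    simp only [mul_sub, Finset.sum_sub_distrib, Finset.mul_sum]
    rw [Finset.sum_comm, Finset.sum_congr rfl fun k _ => e2 k]
    congr 1
    · push_cast
      rw [← e1, Finset.sum_mul]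
      exact Finset.sum_congr rfl fun x _ => by ring
    · rw [Finset.sum_congr rfl (g := fun _ => (n : ℂ) * ((Nat.card D : ℂ) * (η : D → ℂ) d / (η : D → ℂ) 1))
        fun k hk => by rw [← classFun_isConj (isClassFunction_irr η) (Finset.mem_filter.1 hk).2],
        Finset.sum_const, nsmul_eq_mul, hC, ← Fintype.card_subtype, ← Nat.card_eq_fintype_card, omega]
      push_cast
      ring
  rw [hval] at hsum
  exact twoDvd_of_odd_mul (hD.mul hodd) ((isIntegral_omega χ _).sub (isIntegral_omega η _)) hsum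

/-- **two constituents of odd multiplicity are equal** -/
theorem eq_of_odd_multiplicity [Fintype G] (P D : Subgroup G) [Fintype D] (hP : IsPGroup 2 P) (hD : Odd (Nat.card D))
    (hPD : ∀ p ∈ P, ∀ x ∈ D, Commute p x)
    (hfus : ∀ d ∈ D, ∀ k : G, IsConj d k → (∀ p ∈ P, Commute p k) → ∃ e ∈ D, e * d * e⁻¹ = k)
    (χ : IrrCharacter G) (η ξ : IrrCharacter D) {n m : ℕ}
    (hn : classInner (fun x : D => (χ : G → ℂ) x) (η : D → ℂ) = (n : ℂ)) (hno : Odd n)
    (hm : classInner (fun x : D => (χ : G → ℂ) x) (ξ : D → ℂ) = (m : ℂ)) (hmo : Odd m) : η = ξ := by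
  classical
  by_contra hne
  have h : ∀ d : D, TwoDvd (omega (η : D → ℂ) d - omega (ξ : D → ℂ) d) := fun d => by
    have h1 := twoDvd_omega_sub P D hP hD hPD hfus χ η hn hno d
    have h2 := twoDvd_omega_sub P D hP hD hPD hfus χ ξ hm hmo d
    have := h2.sub h1
    convert this using 1
    ring
  -- sum against `ξ` over the classes
  haveI := Fintype.ofFinite (ConjClasses D)
  set F := fun x : D => ((η : D → ℂ) x / (η : D → ℂ) 1 - (ξ : D → ℂ) x / (ξ : D → ℂ) 1) * conj ((ξ : D → ℂ) x)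
  have hF : TwoDvd (∑ x : D, F x) := by
    rw [← Finset.sum_fiberwise Finset.univ ConjClasses.mk F]
    refine TwoDvd.sum _ fun C _ => ?_
    obtain ⟨g, rfl⟩ := ConjClasses.exists_rep C
    rw [Finset.sum_congr rfl (g := fun _ => F g) fun x hx => ?_, Finset.sum_const, nsmul_eq_mul]
    · have hc : ((Finset.univ.filter fun x : D => ConjClasses.mk x = ConjClasses.mk g).card : ℂ) =
          (Nat.card {x : D // IsConj g x} : ℂ) := by
        rw [Nat.card_eq_fintype_card, Fintype.card_subtype]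
        congr 2
        ext x
        simp only [Finset.mem_filter, Finset.mem_univ, true_and, ConjClasses.mk_eq_mk_iff_isConj]
        exact isConj_comm
      rw [hc]
      have := (h g).mul_left (c := conj ((ξ : D → ℂ) g)) (by
        rw [← irr_inv]; exact isCharacter_isIntegral (isCharacter_irr ξ) _)
      convert this using 1
      simp only [omega, F]
      ring
    · have hx' : IsConj x g := ConjClasses.mk_eq_mk_iff_isConj.1 (Finset.mem_filter.1 hx).2
      simp only [F]
      rw [classFun_isConj (isClassFunction_irr η) hx', classFun_isConj (isClassFunction_irr ξ) hx']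
  have hD0 := card_ne_zero' (G := D)
  have hval : (ξ : D → ℂ) 1 * ∑ x : D, F x = -((Nat.card D : ℕ) : ℂ) := by
    have e1 := classInner_irr_ne hne
    have e2 := classInner_irr_self ξ
    rw [classInner, inv_mul_eq_iff_eq_mul₀ hD0] at e1 e2
    rw [mul_zero] at e1
    rw [mul_one] at e2
    have h1 := irr_one_ne_zero η
    have h2 := irr_one_ne_zero ξ
    simp only [F, sub_mul, div_mul_eq_mul_div, Finset.sum_sub_distrib, ← Finset.sum_div, e1, e2, zero_div, zero_sub]
    field_simp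
  have := hF.mul_left (isCharacter_isIntegral (isCharacter_irr ξ) 1)
  rw [hval] at this
  exact not_twoDvd_odd hD (by simpa using this.neg)

/-- in a simple group a nonprincipal irreducible character is faithful -/
theorem eq_one_of_value_eq_degree [Finite G] [IsSimpleGroup G] (χ : IrrCharacter G)
    (hχ : ¬ ∀ g : G, (χ : G → ℂ) g = (χ : G → ℂ) 1) {g : G} (hg : (χ : G → ℂ) g = (χ : G → ℂ) 1) : g = 1 := by
  obtain ⟨e, n, ρ, hρ, rfl⟩ := χ
  have hk : ∀ x : G, ρ.character x = ρ.character 1 → ρ x = 1 := fun x hx => by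
    obtain ⟨b, μ, h1, h2, h3⟩ := exists_eigen_data ρ x
    have e := h3 1
    simp only [pow_one] at e
    have hnm : ∀ i, μ i = 1 := by
      intro i
      have hsum : ∑ j, μ j = (Module.finrank ℂ (Fin n → ℂ) : ℂ) := by rw [← e, hx, Representation.char_one]
      have hall := eq_of_norm_sum_eq_card Finset.univ μ
        (fun j _ => norm_eq_one_of_pow_eq_one' (orderOf_pos x).ne' (h1 j))
        (by rw [hsum, Complex.norm_natCast, Finset.card_univ, Fintype.card_fin]) i (Finset.mem_univ i)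
      rw [hsum, Finset.card_univ, Fintype.card_fin] at hall
      have hd : (Module.finrank ℂ (Fin n → ℂ) : ℂ) ≠ 0 := by exact_mod_cast (finrank_pos_of_irreducible ρ).ne'
      exact mul_left_cancel₀ hd (by rw [hall, mul_one])
    refine b.ext fun i => ?_
    have := h2 1 i
    rw [pow_one, pow_one, hnm i, one_smul] at this
    rw [this, Module.End.one_apply]
  have hN : (ρ.ker).Normal := inferInstance
  rcases hN.eq_bot_or_eq_top with h | h
  · have : g ∈ ρ.ker := MonoidHom.mem_ker.2 (hk g hg)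
    rwa [h, Subgroup.mem_bot] at this
  · exact absurd (fun x => by
      have hx : ρ x = 1 := MonoidHom.mem_ker.1 (h ▸ Subgroup.mem_top x)
      show LinearMap.trace ℂ _ (ρ x) = LinearMap.trace ℂ _ (ρ 1)
      rw [hx, map_one ρ]) hχ

end CfsgLib.GW.CaseA.Inverted
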