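import Cfsg.Agent.Lib.GW.CaseA.Inverted.Count
import Cfsg.Agent.Lib.GW.CaseA.Inverted.Congr
import Cfsg.Agent.Lib.GW.CaseA.Inverted.Combinatorics
import Cfsg.Agent.Lib.Char.Linear
import Cfsg.Agent.Lib.Block.Defect

/-!
# Case A: the reflections cannot all invert an abelian self-centralising subgroup of `O(C(t))`

With `θ` a nontrivial linear character of `D`, the three constituents of the induced difference
`θ - θ λ` are large, and the count of pairs of involutions bounds the sum of their terms from below.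
-/

set_option autoImplicit false
set_option linter.unusedSectionVars false
set_option linter.style.haveILetI false

open Subgroup
open scoped ComplexConjugate Classical

namespace CfsgLib.GW.CaseA.Inverted

open Cfsg CfsgLib.Char

universe u

variable {G : Type u} [Group G]

theorem sum_three_le {ι : Type*} [Fintype ι] (c : ι → ℤ) (d : ι → ℕ) (w : ι → ℤ) (h : ℕ) (hh : 0 < h)
    (hc : ∀ x, -1 ≤ c x ∧ c x ≤ 1) (hd : ∀ x, c x ≠ 0 → 8 * h ≤ d x) (hw : ∑ x, w x ^ 2 = 4 * h) :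
    ∑ x, (c x : ℚ) * (w x : ℚ) ^ 2 / (d x : ℚ) ≤ 1 / 2 := by
  have hb : ∀ x, (c x : ℚ) * (w x : ℚ) ^ 2 / (d x : ℚ) ≤ ((w x ^ 2 : ℤ) : ℚ) / (8 * h) := fun x => by
    by_cases h0 : c x = 0
    · rw [h0, Int.cast_zero, zero_mul, zero_div]
      positivity
    · have h8 : (0 : ℚ) < 8 * (h : ℚ) := by positivity
      have hdx : (8 : ℚ) * h ≤ d x := by exact_mod_cast hd x h0
      have hc1 : (c x : ℚ) ≤ 1 := by exact_mod_cast (hc x).2
      rw [Int.cast_pow]
      calc (c x : ℚ) * (w x : ℚ) ^ 2 / (d x : ℚ) ≤ (w x : ℚ) ^ 2 / (d x : ℚ) :=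
            div_le_div_of_nonneg_right (mul_le_of_le_one_left (sq_nonneg _) hc1) (Nat.cast_nonneg _)
        _ ≤ (w x : ℚ) ^ 2 / (8 * h) := div_le_div_of_nonneg_left (sq_nonneg _) h8 hdx
  calc ∑ x, (c x : ℚ) * (w x : ℚ) ^ 2 / (d x : ℚ) ≤ ∑ x, ((w x ^ 2 : ℤ) : ℚ) / (8 * h) :=
        Finset.sum_le_sum fun x _ => hb x
    _ = ((∑ x, w x ^ 2 : ℤ) : ℚ) / (8 * h) := by rw [← Finset.sum_div, Int.cast_sum]
    _ = 1 / 2 := by
      rw [hw]
      have : (h : ℚ) ≠ 0 := by exact_mod_cast hh.ne'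
      push_cast
      field_simp
      norm_num

variable [Finite G]

namespace Data

variable {t σ τ : G} {h : ℕ} {P : Sylow 2 G} {F : Subgroup G} (X : Data t σ τ h P F)
include X

/-- the exponent of the conjugate twist -/
def negExp (_ : Data t σ τ h P F) (k : ℕ) : ℕ := if k = 0 then 0 else 2 * h - k

theorem negExp_lt {k : ℕ} (hk : k < 2 * h) : X.negExp k < 2 * h := by
  rw [negExp]
  split_ifs <;> omega

theorem tc_tw' (a : IrrCharacter (Rsub t σ)) {k : ℕ} (hk : k < 2 * h) :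
    X.rot.tc (X.rot.tw a k) = X.rot.tw (X.rot.tc a) (X.negExp k) := by
  rw [X.rot.tc_tw a hk.le, negExp]
  split_ifs with h0
  · subst h0
    rw [Nat.sub_zero, ← X.rot.tw_mod, Nat.mod_self]
  · rfl

theorem base_tc' {a : IrrCharacter (Rsub t σ)} (ha : X.rot.Base X.sigmaH a) :
    X.rot.Base X.sigmaH (X.rot.tc a) := X.rot.base_tc X.conjT_sigma ha

theorem tw_eq_iff {a b : IrrCharacter (Rsub t σ)} (ha : X.rot.Base X.sigmaH a) (hb : X.rot.Base X.sigmaH b)
    {i k : ℕ} (hi : i < 2 * h) (hk : k < 2 * h) : X.rot.tw a i = X.rot.tw b k ↔ a = b ∧ i = k :=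
  ⟨X.rot.tw_inj X.order_lam_sigma ha hb hi hk, fun e => by rw [e.1, e.2]⟩

theorem two_lt : 4 ≤ 2 * h := by have := X.frame.two_le; omega

variable [Fintype G] [Fintype (Rsub t σ)] [Fintype (IrrCharacter G)]

/-- the inner product of two induced differences of twists -/
theorem sum_pair {a b : IrrCharacter (Rsub t σ)} (ha : X.rot.Base X.sigmaH a) (hb : X.rot.Base X.sigmaH b)
    {i j k l : ℕ} (hi : i < 2 * h) (hj : j < 2 * h) (hk : k < 2 * h) (hl : l < 2 * h) :
    ∑ χ : IrrCharacter G, X.rot.dm χ (X.rot.tw a i) (X.rot.tw a j) * X.rot.dm χ (X.rot.tw b k) (X.rot.tw b l) =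
      (if a = b then (if i = k then 1 else 0) - (if i = l then 1 else 0) - (if j = k then 1 else 0) +
        (if j = l then 1 else 0) else 0) +
      (if a = X.rot.tc b then (if i = X.negExp k then 1 else 0) - (if i = X.negExp l then 1 else 0) -
        (if j = X.negExp k then 1 else 0) + (if j = X.negExp l then 1 else 0) else 0) := by
  rw [X.rot.sum_dm_mul _ _ _ _ (fun x hx => X.rot.tw_van a i j x hx) (fun x hx => X.rot.tw_van b k l x hx),
    X.tc_tw' b hk, X.tc_tw' b hl]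
  simp only [X.tw_eq_iff ha hb hi hk, X.tw_eq_iff ha hb hi hl, X.tw_eq_iff ha hb hj hk, X.tw_eq_iff ha hb hj hl,
    X.tw_eq_iff ha (X.base_tc' hb) hi (X.negExp_lt hk), X.tw_eq_iff ha (X.base_tc' hb) hi (X.negExp_lt hl),
    X.tw_eq_iff ha (X.base_tc' hb) hj (X.negExp_lt hk), X.tw_eq_iff ha (X.base_tc' hb) hj (X.negExp_lt hl)]
  congr 1
  · by_cases e : a = b <;> simp [e]
  · by_cases e : a = X.rot.tc b <;> simp [e]

/-- the first inflated difference -/
noncomputable def dI (η : IrrCharacter (Dsub t τ)) (i : ℕ) (χ : IrrCharacter G) : ℤ :=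
  X.rot.dm χ (X.rot.tw (X.infl η) 0) (X.rot.tw (X.infl η) i)

omit [Fintype (IrrCharacter G)] in
theorem dI_zero (η : IrrCharacter (Dsub t τ)) (χ : IrrCharacter G) : X.dI η 0 χ = 0 := by
  rw [dI, Rot.dm, sub_self]

theorem sum_dI_ne {η θ : IrrCharacter (Dsub t τ)} (hne : η ≠ θ) {i k : ℕ} (hi : i < 2 * h) (hk : k < 2 * h) :
    ∑ χ, X.dI η i χ * X.dI θ k χ = 0 := by
  simp only [dI]
  rw [X.sum_pair (X.infl_base η) (X.infl_base θ) (by have := X.two_lt; omega) hi (by have := X.two_lt; omega) hk,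
    X.infl_tc]
  have hab : ¬ X.infl η = X.infl θ := fun e => hne (X.infl_inj e)
  rw [if_neg hab, if_neg hab, add_zero]

theorem sum_dI_self (η : IrrCharacter (Dsub t τ)) {i : ℕ} (hi0 : 0 < i) (hi : i < 2 * h) (hih : i ≠ h) :
    ∑ χ, X.dI η i χ ^ 2 = 3 := by
  simp only [dI, sq]
  rw [X.sum_pair (X.infl_base η) (X.infl_base η) (by omega) hi (by omega) hi, X.infl_tc, if_pos rfl, if_pos rfl]
  simp only [negExp, if_neg hi0.ne', if_true, if_neg hi0.ne, if_neg hi0.ne'.symm]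
  rw [if_neg (by omega : ¬ i = 2 * h - i), if_neg (by omega : ¬ 0 = 2 * h - i)]
  simp

theorem sum_dI_half (η : IrrCharacter (Dsub t τ)) : ∑ χ, X.dI η h χ ^ 2 = 4 := by
  have := X.two_lt
  simp only [dI, sq]
  rw [X.sum_pair (X.infl_base η) (X.infl_base η) (by omega) (by omega) (by omega) (by omega), X.infl_tc,
    if_pos rfl, if_pos rfl]
  simp only [negExp, if_neg X.h_ne, if_true, if_neg (Ne.symm X.h_ne)]
  rw [if_pos (by omega : h = 2 * h - h), if_neg (by omega : ¬ 0 = 2 * h - h)]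
  simp

theorem sum_dI_cross (η : IrrCharacter (Dsub t τ)) {i : ℕ} (hi0 : 0 < i) (hi : i < 2 * h) (hih : i ≠ h) :
    ∑ χ, X.dI η i χ * X.dI η h χ = 2 := by
  have := X.two_lt
  simp only [dI]
  rw [X.sum_pair (X.infl_base η) (X.infl_base η) (by omega) hi (by omega) (by omega), X.infl_tc,
    if_pos rfl, if_pos rfl]
  simp only [negExp, if_neg X.h_ne, if_true, if_neg (Ne.symm X.h_ne), if_neg hi0.ne']
  rw [if_neg hih, if_neg (by omega : ¬ i = 2 * h - h), if_neg (by omega : ¬ 0 = 2 * h - h)]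
  simp

theorem half_bound (η : IrrCharacter (Dsub t τ)) (χ : IrrCharacter G) :
    -1 ≤ X.dI η h χ ∧ X.dI η h χ ≤ 1 := by
  refine abs_le_one_of_norm_four (X.sum_dI_half η) (d := fun χ => (charDegree (χ : G → ℂ) : ℤ))
    (fun χ => by exact_mod_cast Nat.pos_of_ne_zero (CfsgLib.Block.charDegree_eq χ).2) ?_ χ
  have h0 := X.rot.sum_dm_degree _ _ (X.rot.tw_van (X.infl η) 0 h)
  simp only [(CfsgLib.Block.charDegree_eq _).1] at h0
  exact_mod_cast h0

omit [Fintype (IrrCharacter G)] in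
theorem mult_symm {a : IrrCharacter (Rsub t σ)} (ha : X.rot.tc a = a) (χ : IrrCharacter G) {i : ℕ} (hi0 : 0 < i)
    (hi : i < 2 * h) : X.rot.mult χ (X.rot.tw a (2 * h - i)) = X.rot.mult χ (X.rot.tw a i) := by
  rw [← X.rot.mult_tc χ (X.rot.tw a i), X.tc_tw' a hi, ha, negExp, if_neg hi0.ne']

variable {θ : IrrCharacter (Dsub t τ)}

/-- the support -/
theorem moved_const {a : IrrCharacter (Rsub t σ)} (ha : X.rot.Base X.sigmaH a) (hmov : X.rot.tc a ≠ a)
    {χ : IrrCharacter G} (hχ : X.dI θ 1 χ ≠ 0) {i : ℕ} (hi : i < 2 * h) :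
    X.rot.mult χ (X.rot.tw a i) = X.rot.mult χ (X.rot.tw a 0) := by
  have h4 := X.two_lt
  have h2 := X.frame.two_le
  rcases Nat.eq_zero_or_pos i with rfl | hi0
  · rfl
  obtain ⟨l₁, l₂, hl1, hl2, a1, a2, a3, a4, a5⟩ :
      ∃ l₁ l₂ : ℕ, l₁ < 2 * h ∧ l₂ < 2 * h ∧ 0 < l₁ ∧ 0 < l₂ ∧ l₁ ≠ i ∧ l₂ ≠ i ∧ l₁ ≠ l₂ := by
    by_cases e1 : i = 1
    · exact ⟨2, 3, by omega, by omega, by omega, by omega, by omega, by omega, by omega⟩
    by_cases e2 : i = 2
    · exact ⟨1, 3, by omega, by omega, by omega, by omega, by omega, by omega, by omega⟩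
    exact ⟨1, 2, by omega, by omega, by omega, by omega, by omega, by omega, by omega⟩
  set v : ℕ → IrrCharacter G → ℤ := fun l ψ => X.rot.dm ψ (X.rot.tw a 0) (X.rot.tw a l) with hv
  have hvv : ∀ l m : ℕ, 0 < l → 0 < m → l < 2 * h → m < 2 * h →
      ∑ ψ, v l ψ * v m ψ = if l = m then 2 else 1 := fun l m hl0 hm0 hl hm => by
    simp only [hv]
    rw [X.sum_pair ha ha (by omega) hl (by omega) hm, if_neg (fun e : a = X.rot.tc a => hmov e.symm), add_zero]
    simp only [if_true, if_neg hl0.ne', if_neg hm0.ne]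
    by_cases e : l = m <;> simp [e]
  have h0 : ∀ l, l < 2 * h → ∑ ψ, X.dI θ 1 ψ * v l ψ = 0 := fun l hl => by
    simp only [hv, dI]
    rw [X.sum_pair (X.infl_base θ) ha (by omega) (by omega) (by omega) hl, if_neg, if_neg, add_zero]
    · intro e
      exact hmov (by rw [← e, ← X.rot.tc_tc a, ← e, X.infl_tc])
    · intro e
      exact hmov (by rw [← e, X.infl_tc])
  have hsq : ∀ l, 0 < l → l < 2 * h → ∑ ψ, v l ψ ^ 2 = 2 := fun l hl0 hl => by
    simp only [sq, hvv l l hl0 hl0 hl hl, if_true]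
  have := no_three_roots (X.sum_dI_self θ one_pos (by omega) (by omega)) (hsq i hi0 hi) (hsq l₁ a1 hl1)
    (hsq l₂ a2 hl2) (by rw [hvv i l₁ hi0 a1 hi hl1, if_neg a3.symm]) (by rw [hvv i l₂ hi0 a2 hi hl2, if_neg a4.symm])
    (by rw [hvv l₁ l₂ a1 a2 hl1 hl2, if_neg a5]) (h0 i hi) (h0 l₁ hl1) (h0 l₂ hl2) χ hχ
  simp only [hv, Rot.dm] at this
  omega

theorem base_at_t {a : IrrCharacter (Rsub t σ)} (ha : X.rot.Base X.sigmaH a) :
    (a : Rsub t σ → ℂ) ⟨t, X.t_mem⟩ = (a : Rsub t σ → ℂ) 1 := by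
  have : ∀ k : ℕ, (a : Rsub t σ → ℂ) (X.sigmaH ^ k) = (a : Rsub t σ → ℂ) 1 := fun k => by
    induction k with
    | zero => rw [pow_zero]
    | succ k ih => rw [pow_succ', ha, ih]
  rw [show (⟨t, X.t_mem⟩ : Rsub t σ) = X.sigmaH ^ h from Subtype.ext (by rw [coe_pow]; exact X.hσ.symm), this]

theorem lam_t : (X.lam ⟨t, X.t_mem⟩ : ℂ) = -1 := by
  rw [X.lam_val (x := ⟨t, X.t_mem⟩) (one_mem _) (one_mem _) (X.t_decomp)]
  set Z := Complex.exp (2 * Real.pi * Complex.I / (2 * h : ℕ))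
  have h2 : (Z ^ h) ^ 2 = 1 := by rw [← pow_mul, mul_comm h 2]; exact (zeta_prim X.h_ne).pow_eq_one
  refine (sq_eq_one_iff.1 h2).resolve_left fun e => ?_
  have := Nat.le_of_dvd (Nat.pos_of_ne_zero X.h_ne) ((zeta_prim X.h_ne).pow_eq_one_iff_dvd _ |>.1 e)
  have := X.h_ne
  omega

variable [Fintype (Dsub t τ)] [Fintype (IrrCharacter (Rsub t σ))]

omit [Fintype (IrrCharacter G)] [Fintype (Dsub t τ)] in
/-- sums over the characters of `H` by base characters and twists -/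
theorem sum_irr_eq (f : IrrCharacter (Rsub t σ) → ℂ) :
    ∑ ξ, f ξ = ∑ a : {a : IrrCharacter (Rsub t σ) // X.rot.Base X.sigmaH a},
      ∑ i ∈ Finset.range (2 * h), f (X.rot.tw a.1 i) := by
  simp only [Finset.sum_range]
  rw [← Fintype.sum_prod_type']
  refine (Fintype.sum_bijective
    (fun p : {a : IrrCharacter (Rsub t σ) // X.rot.Base X.sigmaH a} × Fin (2 * h) => X.rot.tw p.1.1 p.2)
    ⟨?_, fun η => ?_⟩ _ _ fun _ => rfl).symm
  · intro p q e
    obtain ⟨e1, e2⟩ := X.rot.tw_inj X.order_lam_sigma p.1.2 q.1.2 p.2.2 q.2.2 e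
    exact Prod.ext (Subtype.ext e1) (Fin.ext e2)
  · obtain ⟨a, i, hi, ha, e⟩ := X.rot.exists_base X.sigmaH_center X.sigmaH_pow X.order_lam_sigma η
    exact ⟨(⟨a, ha⟩, ⟨i, hi⟩), e.symm⟩

/-- the multiplicity in `D` has the parity of the half difference -/
theorem parity {χ : IrrCharacter G} (hχ : X.dI θ 1 χ ≠ 0) (η : IrrCharacter (Dsub t τ))
    (hb : X.dI η h χ ≠ 0) :
    ∃ n : ℕ, classInner (fun x : Dsub t τ => (χ : G → ℂ) x) (η : Dsub t τ → ℂ) = (n : ℂ) ∧ Odd n := by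
  have hk : ∀ a : IrrCharacter (Rsub t σ), ∃ k : ℕ,
      classInner (fun x : Dsub t τ => (a : Rsub t σ → ℂ) (X.dincl x)) (η : Dsub t τ → ℂ) = (k : ℂ) := fun a =>
    classInner_char_irr_nat (isCharacter_comp (isCharacter_irr a) X.dincl) η
  choose k hk using hk
  let B := {a : IrrCharacter (Rsub t σ) // X.rot.Base X.sigmaH a}
  let m : B → ℕ := fun a => ∑ i ∈ Finset.range (2 * h), X.rot.mult χ (X.rot.tw a.1 i)
  refine ⟨∑ a : B, m a * k a.1, ?_, ?_⟩
  · have e1 : (fun x : Dsub t τ => (χ : G → ℂ) x) =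
        ∑ a : B, (m a : ℂ) • fun x : Dsub t τ => (a.1 : Rsub t σ → ℂ) (X.dincl x) := by
      funext x
      rw [show (x : G) = (X.dincl x : G) from rfl, X.rot.char_expand, X.sum_irr_eq]
      simp only [Finset.sum_apply, Pi.smul_apply, smul_eq_mul, m, Nat.cast_sum, Finset.sum_mul]
      refine Finset.sum_congr rfl fun a _ => Finset.sum_congr rfl fun i _ => ?_
      rw [Rot.tw_apply, X.lam_dincl, Units.val_one, one_pow, one_mul]
    rw [e1, classInner_sum_left]
    push_cast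
    refine Finset.sum_congr rfl fun a _ => ?_
    rw [classInner_smul_left, hk]
  · let a₀ : B := ⟨X.infl η, X.infl_base η⟩
    rw [← Finset.add_sum_erase _ _ (Finset.mem_univ a₀)]
    refine Odd.add_even ?_ (Finset.even_sum _ fun a ha => ?_)
    · have hk1 : k (X.infl η) = 1 := by
        have := hk (X.infl η)
        simp only [infl_apply, X.proj_dincl] at this
        rw [classInner_irr_self] at this
        exact_mod_cast this.symm
      rw [show k a₀.1 = 1 from hk1, mul_one]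
      show Odd (∑ i ∈ Finset.range (2 * h), X.rot.mult χ (X.rot.tw (X.infl η) i))
      refine (even_sum_range_symm (Nat.pos_of_ne_zero X.h_ne) _ fun i hi0 hi =>
        X.mult_symm (X.infl_tc η) χ hi0 hi).2 ?_
      have hb1 := X.half_bound η χ
      simp only [dI, Rot.dm] at hb hb1
      rw [Nat.odd_iff]
      omega
    · obtain ⟨a, hab⟩ := a
      have hne : a ≠ X.infl η := fun e => (Finset.mem_erase.1 ha).1 (Subtype.ext e)
      by_cases hmov : X.rot.tc a = a
      · obtain ⟨η', rfl⟩ := X.exists_infl a hab hmov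
        have hk0 : k (X.infl η') = 0 := by
          have := hk (X.infl η')
          simp only [infl_apply, X.proj_dincl] at this
          rw [classInner_irr_ne fun e => hne (by rw [e])] at this
          exact_mod_cast this.symm
        show Even (_ * k (X.infl η'))
        rw [hk0, mul_zero]
        exact ⟨0, rfl⟩
      · show Even ((∑ i ∈ Finset.range (2 * h), X.rot.mult χ (X.rot.tw a i)) * k a)
        rw [Finset.sum_congr rfl fun i hi => X.moved_const hab hmov hχ (Finset.mem_range.1 hi),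
          Finset.sum_const, Finset.card_range, smul_eq_mul]
        exact ((even_two_mul h).mul_right _).mul_right _

/-- two odd constituents in `D` agree -/
theorem unique_odd {χ : IrrCharacter G} (hχ : X.dI θ 1 χ ≠ 0) {η η' : IrrCharacter (Dsub t τ)}
    (hb : X.dI η h χ ≠ 0) (hb' : X.dI η' h χ ≠ 0) : η = η' := by
  obtain ⟨n, hn, hno⟩ := X.parity hχ η hb
  obtain ⟨m, hm, hmo⟩ := X.parity hχ η' hb'
  refine eq_of_odd_multiplicity (P : Subgroup G) (Dsub t τ) P.2 ((odd_ocore t).of_dvd_nat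
    (Subgroup.card_dvd_of_le dsub_le)) (fun p hp x hx => ?_) (fun d hd k hk hkP => X.dsub_fusion hd hk hkP)
    χ η η' hn hno hm hmo
  obtain ⟨l, e | e⟩ := X.frame.cases p hp
  · exact e ▸ (X.sigma_central (dsub_le hx)).pow_left l
  · exact e ▸ (dsub_comm hx).symm.mul_left ((X.sigma_central (dsub_le hx)).pow_left l)

/-- the other linear and nonlinear characters of `D` do not occur in the three constituents -/
theorem half_eq_zero {η : IrrCharacter (Dsub t τ)} (hne : η ≠ θ) {χ : IrrCharacter G} (hχ : X.dI θ 1 χ ≠ 0) :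
    X.dI η h χ = 0 := by
  classical
  have h4 := X.two_lt
  have hz : ∀ ψ, X.dI θ 1 ψ ≠ 0 → X.dI η h ψ ≠ 0 → X.dI θ h ψ = 0 := fun ψ h1 h2 => by
    by_contra h3
    exact hne (X.unique_odd h1 h2 h3)
  by_contra hc
  have hu : ∀ ψ, ψ ≠ χ → X.dI θ 1 ψ * X.dI η h ψ = 0 := fun ψ hψ => by
    by_contra hp
    obtain ⟨p1, p2⟩ := mul_ne_zero_iff.1 hp
    exact hψ (unique_zero (X.sum_dI_self θ one_pos (by omega) (by omega)) (X.half_bound θ)
      (X.sum_dI_cross θ one_pos (by omega) (by omega)) p1 hχ (hz ψ p1 p2) (hz χ hχ hc))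
  have h0 := X.sum_dI_ne (η := θ) (θ := η) (Ne.symm hne) (i := 1) (k := h) (by omega) (by omega)
  rw [Finset.sum_eq_single χ (fun ψ _ hψ => hu ψ hψ) (fun e => absurd (Finset.mem_univ χ) e)] at h0
  exact mul_ne_zero hχ hc h0

theorem fixed_const {η : IrrCharacter (Dsub t τ)} (hne : η ≠ θ) {χ : IrrCharacter G} (hχ : X.dI θ 1 χ ≠ 0)
    {i : ℕ} (hi : i < 2 * h) :
    X.rot.mult χ (X.rot.tw (X.infl η) i) = X.rot.mult χ (X.rot.tw (X.infl η) 0) := by
  classical
  have h4 := X.two_lt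
  have key : X.dI η i χ = 0 := by
    rcases Nat.eq_zero_or_pos i with rfl | hi0
    · exact X.dI_zero η χ
    rcases eq_or_ne i h with rfl | hih
    · exact X.half_eq_zero hne hχ
    by_contra hc
    have hu : ∀ ψ, ψ ≠ χ → X.dI θ 1 ψ * X.dI η i ψ = 0 := fun ψ hψ => by
      by_contra hp
      obtain ⟨p1, p2⟩ := mul_ne_zero_iff.1 hp
      exact hψ (unique_zero (X.sum_dI_self η hi0 hi hih) (X.half_bound η)
        (X.sum_dI_cross η hi0 hi hih) p2 hc (X.half_eq_zero hne p1) (X.half_eq_zero hne hχ))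
    have h0 := X.sum_dI_ne (η := θ) (θ := η) (Ne.symm hne) (i := 1) (k := i) (by omega) hi
    rw [Finset.sum_eq_single χ (fun ψ _ hψ => hu ψ hψ) (fun e => absurd (Finset.mem_univ χ) e)] at h0
    exact mul_ne_zero hχ hc h0
  simp only [dI, Rot.dm] at key
  omega

/-- the alternating sum -/
noncomputable def wt (θ : IrrCharacter (Dsub t τ)) (χ : IrrCharacter G) : ℤ :=
  ∑ l ∈ Finset.range h, X.rot.dm χ (X.rot.tw (X.infl θ) (2 * l)) (X.rot.tw (X.infl θ) (2 * l + 1))

theorem value_t (hθ1 : (θ : Dsub t τ → ℂ) 1 = 1) {χ : IrrCharacter G} (hχ : X.dI θ 1 χ ≠ 0) :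
    (χ : G → ℂ) t = (X.wt θ χ : ℂ) := by
  classical
  have halt : ∀ (n : ℕ) (f : ℕ → ℂ), ∑ i ∈ Finset.range (2 * n), (-1 : ℂ) ^ i * f i =
      ∑ l ∈ Finset.range n, (f (2 * l) - f (2 * l + 1)) := fun n f => by
    induction n with
    | zero => simp
    | succ n ih =>
      rw [show 2 * (n + 1) = 2 * n + 1 + 1 by ring, Finset.sum_range_succ, Finset.sum_range_succ, ih,
        Finset.sum_range_succ, (even_two_mul n).neg_one_pow, (odd_two_mul_add_one n).neg_one_pow]
      ring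
  let a₀ : {a : IrrCharacter (Rsub t σ) // X.rot.Base X.sigmaH a} := ⟨X.infl θ, X.infl_base θ⟩
  change (χ : G → ℂ) ((⟨t, X.t_mem⟩ : Rsub t σ) : G) = _
  rw [X.rot.char_expand, X.sum_irr_eq, Finset.sum_eq_single a₀]
  · simp only [Rot.tw_apply, X.lam_t, X.base_at_t (X.infl_base θ), infl_apply, map_one, hθ1, mul_one, a₀]
    simp only [mul_comm ((X.rot.mult χ _ : ℂ))]
    rw [halt, wt, Int.cast_sum]
    refine Finset.sum_congr rfl fun l _ => ?_
    simp only [Rot.dm]
    push_cast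
    rfl
  · rintro ⟨a, hab⟩ - hne
    have hconst : ∀ i < 2 * h, X.rot.mult χ (X.rot.tw a i) = X.rot.mult χ (X.rot.tw a 0) := by
      by_cases hmov : X.rot.tc a = a
      · obtain ⟨η, rfl⟩ := X.exists_infl a hab hmov
        exact fun i hi => X.fixed_const (fun e => hne (Subtype.ext (show X.infl η = X.infl θ from congrArg X.infl e))) hχ hi
      · exact fun i hi => X.moved_const hab hmov hχ hi
    simp only [Rot.tw_apply, X.lam_t, X.base_at_t hab]
    rw [Finset.sum_congr rfl (g := fun i => ((X.rot.mult χ (X.rot.tw a 0) : ℂ) * (a : Rsub t σ → ℂ) 1) * (-1) ^ i)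
      fun i hi => by rw [hconst i (Finset.mem_range.1 hi)]; ring, ← Finset.mul_sum, neg_one_geom_sum,
      if_pos (even_two_mul h), mul_zero]
  · exact fun e => absurd (Finset.mem_univ _) e

theorem sum_wt : ∑ χ, X.wt θ χ ^ 2 = 4 * h := by
  classical
  have hh2 := X.frame.two_le
  simp only [wt, sq, Finset.sum_mul_sum]
  rw [Finset.sum_comm]
  have hrow : ∀ l ∈ Finset.range h, ∑ χ : IrrCharacter G, ∑ m ∈ Finset.range h,
      X.rot.dm χ (X.rot.tw (X.infl θ) (2 * l)) (X.rot.tw (X.infl θ) (2 * l + 1)) *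
        X.rot.dm χ (X.rot.tw (X.infl θ) (2 * m)) (X.rot.tw (X.infl θ) (2 * m + 1)) = 4 := fun l hl => by
    rw [Finset.mem_range] at hl
    rw [Finset.sum_comm]
    have hpair : ∀ m ∈ Finset.range h, ∑ χ : IrrCharacter G,
        X.rot.dm χ (X.rot.tw (X.infl θ) (2 * l)) (X.rot.tw (X.infl θ) (2 * l + 1)) *
          X.rot.dm χ (X.rot.tw (X.infl θ) (2 * m)) (X.rot.tw (X.infl θ) (2 * m + 1)) =
        ((if m = l then 2 else 0) + (if m = (if l = 0 then 0 else h - l) then 1 else 0)) +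
          (if m = h - 1 - l then 1 else 0) := fun m hm => by
      rw [Finset.mem_range] at hm
      rw [X.sum_pair (X.infl_base θ) (X.infl_base θ) (by omega) (by omega) (by omega) (by omega), X.infl_tc,
        if_pos rfl, if_pos rfl]
      simp only [negExp]
      split_ifs <;> first | omega | contradiction
    rw [Finset.sum_congr rfl hpair]
    simp only [Finset.sum_add_distrib, Finset.sum_ite_eq', Finset.mem_range]
    rw [if_pos hl, if_pos (by split_ifs <;> omega), if_pos (by omega)]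
    norm_num
  rw [Finset.sum_congr rfl hrow, Finset.sum_const, Finset.card_range, nsmul_eq_mul]
  ring

omit [Fintype (Dsub t τ)] [Fintype (IrrCharacter G)] in
/-- the constituents have large degree -/
theorem degree_ge (hθne : θ ≠ ⟨fun _ => 1, isIrrCharacter_one⟩) {χ : IrrCharacter G}
    (hχ : X.dI θ 1 χ ≠ 0) (hD : Dsub t τ ≠ ⊥)
    (hconst : ∀ a : IrrCharacter (Rsub t σ), X.rot.Base X.sigmaH a → X.rot.tc a ≠ a →
      ∀ i < 2 * h, X.rot.mult χ (X.rot.tw a i) = X.rot.mult χ (X.rot.tw a 0)) :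
    8 * h ≤ charDegree (χ : G → ℂ) := by
  classical
  haveI := X.hyp.min.simple
  have h4 := X.two_lt
  -- not the principal character
  have hnp : ¬ ∀ g : G, (χ : G → ℂ) g = (χ : G → ℂ) 1 := fun hall => by
    let one : IrrCharacter (Rsub t σ) := ⟨fun _ => 1, isIrrCharacter_one⟩
    have hm : ∀ a : IrrCharacter (Rsub t σ), a ≠ one → X.rot.mult χ a = 0 := fun a ha => by
      have h1 := X.rot.mult_spec χ a
      rw [show (fun x : Rsub t σ => (χ : G → ℂ) x) = ((χ : G → ℂ) 1) • ((one : Rsub t σ → ℂ)) from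
        funext fun x => by simp [one, hall x], classInner_smul_left, classInner_irr_ne (Ne.symm ha), mul_zero] at h1
      exact_mod_cast h1.symm
    have hone : one = X.rot.tw (X.infl ⟨fun _ => 1, isIrrCharacter_one⟩) 0 := by
      rw [X.rot.tw_zero]
      rfl
    refine hχ ?_
    rw [dI, Rot.dm, hm _ ?_, hm _ ?_, sub_self]
    all_goals rw [hone, Ne, X.tw_eq_iff (X.infl_base θ) (X.infl_base _) (by omega) (by omega)]
    all_goals exact fun e => hθne (X.infl_inj e.1)
  -- a commutator of `F` and `D`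
  obtain ⟨⟨d, hd⟩, hd0⟩ := Subgroup.ne_bot_iff_exists_ne_one.1 hD
  have hd1 : d ≠ 1 := fun e => hd0 (Subtype.ext e)
  obtain ⟨f, hf, hfd⟩ : ∃ f ∈ F, ¬ Commute f d := by
    by_contra! hall
    exact hd1 (X.eq_one_of_mem_both (X.mem_fsub_of_commute (dsub_le hd) hall) hd)
  have hft : Commute d t := mem_centralizer_singleton_iff.1 (ocore_le t (dsub_le hd))
  have hxF : f * d * f⁻¹ * d⁻¹ ∈ F := by
    rw [show f * d * f⁻¹ * d⁻¹ = f * (d * f⁻¹ * d⁻¹) by group]
    exact mul_mem hf (X.fsub_normal hft (inv_mem hf))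
  set fH : Rsub t σ := ⟨f, ocore_le_rsub (X.fsub_le hf)⟩
  set dH : Rsub t σ := ⟨d, ocore_le_rsub (dsub_le hd)⟩
  set x := fH * dH * fH⁻¹ * dH⁻¹ with hx
  have hxG : (x : G) = f * d * f⁻¹ * d⁻¹ := rfl
  have hxne : (x : G) ≠ 1 := fun e => hfd (by
    rw [hxG, mul_inv_eq_one, mul_inv_eq_iff_eq_mul] at e
    exact e)
  have hxdec : (x : G) = (x : G) * 1 * σ ^ 0 := by rw [pow_zero, mul_one, mul_one]
  have hxlam : X.lam x = 1 := Units.ext (by
    rw [X.lam_val (f := (x : G)) (d := 1) (l := 0) hxF (one_mem _) hxdec, pow_zero, Units.val_one])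
  have hxproj : X.proj x = 1 := Subtype.ext (X.proj_val (f := (x : G)) (l := 0) hxF (one_mem _) hxdec)
  -- a moved nonlinear constituent
  obtain ⟨a, hab, hmov, hadeg, hmult⟩ : ∃ a, X.rot.Base X.sigmaH a ∧ X.rot.tc a ≠ a ∧
      2 ≤ charDegree (a : Rsub t σ → ℂ) ∧ X.rot.mult χ (X.rot.tw a 0) ≠ 0 := by
    by_contra! hall
    refine hxne (eq_one_of_value_eq_degree χ hnp ?_)
    rw [show (1 : G) = ((1 : Rsub t σ) : G) from rfl, X.rot.char_expand, X.rot.char_expand, X.sum_irr_eq,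
      X.sum_irr_eq]
    refine Finset.sum_congr rfl fun a _ => Finset.sum_congr rfl fun i hi => ?_
    rw [Rot.tw_apply, Rot.tw_apply, hxlam, map_one]
    by_cases hm0 : X.rot.mult χ (X.rot.tw a.1 i) = 0
    · rw [hm0, Nat.cast_zero, zero_mul, zero_mul]
    congr 2
    by_cases hmov : X.rot.tc a.1 = a.1
    · obtain ⟨η, hη⟩ := X.exists_infl a.1 a.2 hmov
      rw [hη, infl_apply, infl_apply, hxproj, map_one]
    · have hlt : ¬ 2 ≤ charDegree (a.1 : Rsub t σ → ℂ) := fun hd2 =>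
        hm0 (by rw [hconst a.1 a.2 hmov i (Finset.mem_range.1 hi), hall a.1 a.2 hmov hd2])
      have h1 : (a.1 : Rsub t σ → ℂ) 1 = 1 := by
        rw [(CfsgLib.Block.charDegree_eq a.1).1]
        have := (CfsgLib.Block.charDegree_eq a.1).2
        exact_mod_cast (by omega : charDegree (a.1 : Rsub t σ → ℂ) = 1)
      obtain ⟨φ, hφ⟩ := linearCharEquiv.surjective ⟨a.1, h1⟩
      have hv : ∀ y, (a.1 : Rsub t σ → ℂ) y = (φ y : ℂ) := fun y => by
        rw [show a.1 = (linearCharEquiv φ).1 by rw [hφ]]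
        rfl
      rw [hv, hv, hx, map_mul, map_mul, map_mul, map_inv, map_inv, map_one]
      congr 1
      rw [mul_comm (φ fH), mul_assoc (φ dH), mul_inv_cancel, mul_one, mul_inv_cancel]
  have hdeg : (charDegree (χ : G → ℂ) : ℕ) =
      ∑ c : {a : IrrCharacter (Rsub t σ) // X.rot.Base X.sigmaH a}, ∑ i ∈ Finset.range (2 * h),
        X.rot.mult χ (X.rot.tw c.1 i) * charDegree (c.1 : Rsub t σ → ℂ) := by
    have e := X.rot.char_expand χ 1
    rw [OneMemClass.coe_one, X.sum_irr_eq, (CfsgLib.Block.charDegree_eq χ).1] at e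
    simp only [Rot.tw_apply, map_one, Units.val_one, one_pow, one_mul] at e
    simp only [(CfsgLib.Block.charDegree_eq _).1] at e
    exact_mod_cast e
  rw [hdeg]
  let c₁ : {a : IrrCharacter (Rsub t σ) // X.rot.Base X.sigmaH a} := ⟨a, hab⟩
  let c₂ : {a : IrrCharacter (Rsub t σ) // X.rot.Base X.sigmaH a} := ⟨X.rot.tc a, X.base_tc' hab⟩
  have hc12 : c₁ ≠ c₂ := fun e => hmov (congrArg Subtype.val e).symm
  refine le_trans ?_ (Finset.sum_le_sum_of_subset (s := {c₁, c₂}) (Finset.subset_univ _))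
  rw [Finset.sum_pair hc12]
  have hd2 : charDegree (X.rot.tc a : Rsub t σ → ℂ) = charDegree (a : Rsub t σ → ℂ) := by
    simp only [charDegree, Rot.tc_apply, map_one]
  have hmc : X.rot.mult χ (X.rot.tw (X.rot.tc a) 0) = X.rot.mult χ (X.rot.tw a 0) := by
    rw [X.rot.tw_zero, X.rot.tw_zero, X.rot.mult_tc]
  have key : ∀ b : IrrCharacter (Rsub t σ), X.rot.Base X.sigmaH b → X.rot.tc b ≠ b →
      1 ≤ X.rot.mult χ (X.rot.tw b 0) → 2 ≤ charDegree (b : Rsub t σ → ℂ) →
      4 * h ≤ ∑ i ∈ Finset.range (2 * h), X.rot.mult χ (X.rot.tw b i) * charDegree (b : Rsub t σ → ℂ) :=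
    fun b hb hbm h1 h2 => by
      rw [Finset.sum_congr rfl fun i hi => by rw [hconst b hb hbm i (Finset.mem_range.1 hi)], Finset.sum_const,
        Finset.card_range, smul_eq_mul]
      calc 4 * h = 2 * h * (1 * 2) := by ring
        _ ≤ _ := Nat.mul_le_mul_left _ (Nat.mul_le_mul h1 h2)
  have k1 := key a hab hmov (Nat.one_le_iff_ne_zero.2 hmult) hadeg
  have k2 := key (X.rot.tc a) (X.base_tc' hab) (fun e => hmov (by rw [X.rot.tc_tc] at e; exact e.symm))
    (by rw [hmc]; exact Nat.one_le_iff_ne_zero.2 hmult) (by rw [hd2]; exact hadeg)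
  show 8 * h ≤ _ + _
  linarith

end Data

/-- **the reflections do not invert an abelian self-centralising subgroup of `O(C(t))`**, unless they all act
fixed point freely on `O(C(t))` -/
theorem false_of_inverted_abelian {t : G} {F : Subgroup G} (hH : Hyp t F)
    (hne : ∃ a x, orderOf a = 2 ∧ a ≠ t ∧ Commute a t ∧ x ∈ Ocore t ∧ x ≠ 1 ∧ Commute x a) : False := by
  classical
  obtain ⟨σ, τ, h, P, X⟩ := exists_data hH
  letI := Fintype.ofFinite G
  haveI := Fintype.ofFinite (Rsub t σ)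
  haveI := Fintype.ofFinite (IrrCharacter G)
  haveI := Fintype.ofFinite (IrrCharacter (Rsub t σ))
  haveI := Fintype.ofFinite (Dsub t τ)
  have hD := X.dsub_ne_bot hne
  haveI := (Subgroup.nontrivial_iff_ne_bot _).2 hD
  haveI : Group.IsSolvable (Dsub t τ) :=
    CfsgLib.FT.isSolvable_of_odd _ ((odd_ocore t).of_dvd_nat (Subgroup.card_dvd_of_le Data.dsub_le))
  obtain ⟨g, -, hg⟩ := SetLike.exists_of_lt (Group.IsSolvable.commutator_lt_top_of_nontrivial (Dsub t τ))
  obtain ⟨φ, hφ⟩ := CfsgLib.Block.exists_linear_ne_one hg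
  set θ : IrrCharacter (Dsub t τ) := ⟨fun d => (φ d : ℂ), isIrrCharacter_lin φ⟩ with hθ
  have hθ1 : (θ : Dsub t τ → ℂ) 1 = 1 := by simp [hθ]
  have hθne : θ ≠ ⟨fun _ => 1, isIrrCharacter_one⟩ := fun e => hφ (Units.ext (by
    simpa [hθ] using congrArg (fun z : IrrCharacter (Dsub t τ) => (z : Dsub t τ → ℂ) g) e))
  have hθu : ∀ d, (θ : Dsub t τ → ℂ) d * conj ((θ : Dsub t τ → ℂ) d) = 1 := fun d => by
    rw [← irr_inv θ d]
    show (φ d : ℂ) * (φ d⁻¹ : ℂ) = 1
    rw [← Units.val_mul, ← map_mul, mul_inv_cancel, map_one, Units.val_one]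
  have h4 := X.two_lt
  have hpc := X.pair_count θ hθu hθ1
  set q : IrrCharacter G → ℚ := fun χ =>
    (X.dI θ 1 χ : ℚ) * (X.wt θ χ : ℚ) ^ 2 / (charDegree (χ : G → ℂ) : ℚ) with hq
  have hterm : ∀ χ : IrrCharacter G, (X.rot.dm χ (X.infl θ) (X.rot.tw (X.infl θ) 1) : ℂ) *
      (χ : G → ℂ) t ^ 2 / (χ : G → ℂ) 1 = ((q χ : ℚ) : ℂ) := fun χ => by
    have e : X.rot.dm χ (X.infl θ) (X.rot.tw (X.infl θ) 1) = X.dI θ 1 χ := by
      rw [Data.dI, X.rot.tw_zero]
    rw [e, (CfsgLib.Block.charDegree_eq χ).1, hq]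
    by_cases h0 : X.dI θ 1 χ = 0
    · simp [h0]
    · rw [X.value_t hθ1 h0]
      push_cast
      rfl
  rw [Finset.sum_congr rfl fun χ _ => hterm χ] at hpc
  have hqe : ∑ χ, q χ = 8 * (h : ℚ) ^ 2 * (Nat.card F : ℚ) ^ 2 * Nat.card (centralizer ({t} : Set G)) /
      (Nat.card G : ℚ) := by
    apply Rat.cast_injective (α := ℂ)
    push_cast
    exact hpc
  have hle : ∑ χ, q χ ≤ 1 / 2 := sum_three_le (X.dI θ 1) _ (X.wt θ) h (by omega)
    (abs_le_one_of_norm_three (X.sum_dI_self θ one_pos (by omega) (by omega)))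
    (fun χ hχ => X.degree_ge hθne hχ hD fun a ha hm i hi => X.moved_const ha hm hχ hi) X.sum_wt
  rw [hqe, div_le_div_iff₀ (by exact_mod_cast Nat.card_pos) two_pos] at hle
  have := X.index_lt
  linarith

/-- the subgroup generated by the `O_q(C(t))`, `q` odd -/
def Fgen (t : G) : Subgroup G :=
  closure {x | ∃ q : ℕ, q.Prime ∧ q ≠ 2 ∧ x ∈ coreAt q t}

theorem hyp_of_allInverted {t : G} (hA : CaseA t) (h8 : 8 ∣ Nat.card (centralizer ({t} : Set G)))
    (hinv : AllInverted t) : Hyp t (Fgen t) := by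
  set S : Set G := {x | ∃ q : ℕ, q.Prime ∧ q ≠ 2 ∧ x ∈ coreAt q t}
  obtain ⟨P, σ, τ, h, D, hσ, -⟩ := hA.min.exists_frame (h8.trans (card_subgroup_dvd_card _)) hA.invol
  have hτo : orderOf τ = 2 := orderOf_eq_prime (by rw [sq, D.sqτ]) fun e => D.not_zpow (e ▸ one_mem _)
  have hτt : τ ≠ t := fun e => D.not_zpow (by rw [e, ← hσ]; exact npow_mem_zpowers σ h)
  have hτc : Commute τ t := hσ ▸ D.J_comm D.memτ
  have key : ∀ x ∈ S, ∀ y ∈ S, Commute x y := by
    rintro x ⟨q, hq, hq2, hx⟩ y ⟨r, hr, hr2, hy⟩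
    haveI := Fact.mk hq
    haveI := Fact.mk hr
    by_cases hqr : r = q
    · subst hqr
      have i := hinv r hr hr2 τ hτo hτt hτc
      have e : τ * (x * y) * τ⁻¹ = (τ * x * τ⁻¹) * (τ * y * τ⁻¹) := by group
      rw [i x hx, i y hy, i _ (mul_mem hx hy), mul_inv_rev] at e
      show x * y = y * x
      calc x * y = (y⁻¹ * x⁻¹)⁻¹ := by group
        _ = (x⁻¹ * y⁻¹)⁻¹ := by rw [e]
        _ = y * x := by group
    · exact CfsgLib.Coprime.BenderUniqueness.commute_opc hqr hx hy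
  have hcomm : ∀ x ∈ Fgen t, ∀ y ∈ Fgen t, Commute x y := fun x hx y hy => by
    have h1 : ∀ z ∈ S, Fgen t ≤ centralizer ({z} : Set G) := fun z hz =>
      (closure_le _).2 fun w hw => mem_centralizer_singleton_iff.2 (key w hw z hz).eq
    have h2 : Fgen t ≤ centralizer ({x} : Set G) := (closure_le _).2 fun w hw =>
      mem_centralizer_singleton_iff.2 (mem_centralizer_singleton_iff.1 (h1 w hw hx)).symm
    exact (mem_centralizer_singleton_iff.1 (h2 hy)).symm
  refine ⟨hA.min, hA.invol, h8, ?_, ?_, hcomm, ?_, ?_⟩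
  · refine (closure_le _).2 fun x ⟨q, hq, hq2, hx⟩ => ?_
    haveI := Fact.mk hq
    exact coreAt_le_ocore hq2 t hx
  · intro g hg
    have key : ∀ g : G, Commute g t → ∀ x ∈ Fgen t, g * x * g⁻¹ ∈ Fgen t := by
      intro g hg x hx
      induction hx using closure_induction with
      | mem x hx =>
        obtain ⟨q, hq, hq2, hx⟩ := hx
        exact subset_closure ⟨q, hq, hq2, (mem_normalizer_iff.1 (mem_normalizer_coreAt hg) x).1 hx⟩
      | one => simp
      | mul x y _ _ ihx ihy =>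
        rw [show g * (x * y) * g⁻¹ = g * x * g⁻¹ * (g * y * g⁻¹) by group]
        exact mul_mem ihx ihy
      | inv x _ ih =>
        rw [show g * x⁻¹ * g⁻¹ = (g * x * g⁻¹)⁻¹ by group]
        exact inv_mem ih
    have hg' : Commute g t := mem_centralizer_singleton_iff.1 hg
    refine mem_normalizer_iff.2 fun x => ⟨key g hg' x, fun hx => ?_⟩
    have := key g⁻¹ hg'.inv_left _ hx
    simpa [mul_assoc] using this
  · intro a ha hne hc x hx
    induction hx using closure_induction with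
    | mem x hx =>
      obtain ⟨q, hq, hq2, hx⟩ := hx
      exact hinv q hq hq2 a ha hne hc x hx
    | one => group
    | mul x y hx hy ihx ihy =>
      rw [show a * (x * y) * a⁻¹ = a * x * a⁻¹ * (a * y * a⁻¹) by group, ihx, ihy, mul_inv_rev]
      exact ((hcomm x hx y hy).inv_left.inv_right).eq
    | inv x _ ih => rw [show a * x⁻¹ * a⁻¹ = (a * x * a⁻¹)⁻¹ by group, ih]
  · rintro x ⟨hxO, hxc⟩
    have hle : CfsgLib.Coprime.BenderUniqueness.fit (Ocore t) ≤ Fgen t :=
      fit_ocore_le fun q hq hq2 _ hx => subset_closure ⟨q, hq, hq2, hx⟩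
    exact hle (CaseB.mem_fit_ocN (M := centralizer ({t} : Set G)) hxO fun f hf =>
      mem_centralizer_iff.1 hxc f (hle hf))

/-- **all inverted: impossible** -/
theorem false_of_allInverted {t : G} (hA : CaseA t) (h8 : 8 ∣ Nat.card (centralizer ({t} : Set G)))
    (hinv : AllInverted t)
    (hne : ∃ a x, orderOf a = 2 ∧ a ≠ t ∧ Commute a t ∧ x ∈ Ocore t ∧ x ≠ 1 ∧ Commute x a) : False :=
  false_of_inverted_abelian (hyp_of_allInverted hA h8 hinv) hne

end CfsgLib.GW.CaseA.Inverted
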