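import Cfsg.Agent.Lib.GW.CaseA.Inverted.Structure
import Cfsg.Agent.Lib.Char.ClassMul

/-!
# Case A, all inverted: fixed characters, the index of `C(t)`, pairs of involutions
-/

set_option autoImplicit false
set_option linter.unusedSectionVars false
set_option linter.style.haveILetI false

open Subgroup
open scoped ComplexConjugate

namespace CfsgLib.GW.CaseA.Inverted

open Cfsg CfsgLib.Char CfsgLib.Block.Dihedral

universe u

variable {G : Type u} [Group G] [Finite G]

namespace Data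

variable {t σ τ : G} {h : ℕ} {P : Sylow 2 G} {F : Subgroup G} (X : Data t σ τ h P F)
include X

/-- `σ` among the rotations -/
def sigmaH : Rsub t σ := let _ := X; ⟨σ, sigma_mem⟩

theorem sigmaH_center : X.sigmaH ∈ center (Rsub t σ) :=
  mem_center_iff.2 fun x => Subtype.ext (X.commute_sigma x.2).eq.symm

theorem sigmaH_pow : X.sigmaH ^ (2 * h) = 1 :=
  Subtype.ext (by rw [coe_pow, coe_one]; exact X.frame.pow_eq_one.2 dvd_rfl)

theorem sigmaH_decomp : (X.sigmaH : G) = 1 * 1 * σ ^ 1 := by rw [one_mul, one_mul, pow_one]; rfl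

theorem lam_sigma : (X.lam X.sigmaH : ℂ) = Complex.exp (2 * Real.pi * Complex.I / (2 * h : ℕ)) := by
  rw [X.lam_val (one_mem _) (one_mem _) X.sigmaH_decomp, pow_one]

theorem order_lam_sigma : orderOf (X.lam X.sigmaH) = 2 * h := by
  rw [← orderOf_units, lam_sigma, ← (zeta_prim X.h_ne).eq_orderOf]

theorem conjT_sigma : X.rot.conjT X.sigmaH = X.sigmaH⁻¹ :=
  Subtype.ext (by rw [Rot.conjT_val, coe_inv]; exact X.frame.rel)

/-- `D` among the rotations -/
def dincl : Dsub t τ →* Rsub t σ := let _ := X; inclusion ((dsub_le (t := t) (τ := τ)).trans ocore_le_rsub)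

theorem dincl_val (d : Dsub t τ) : (X.dincl d : G) = d := rfl

theorem dincl_decomp (d : Dsub t τ) : (X.dincl d : G) = 1 * (d : G) * σ ^ 0 := by
  rw [one_mul, pow_zero, mul_one, dincl_val]

theorem proj_dincl (d : Dsub t τ) : X.proj (X.dincl d) = d :=
  Subtype.ext (X.proj_val (one_mem _) d.2 (X.dincl_decomp d))

theorem lam_dincl (d : Dsub t τ) : X.lam (X.dincl d) = 1 :=
  Units.ext (by rw [X.lam_val (one_mem _) d.2 (X.dincl_decomp d), pow_zero, Units.val_one])

theorem proj_sigma : X.proj X.sigmaH = 1 :=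
  Subtype.ext (X.proj_val (one_mem _) (one_mem _) X.sigmaH_decomp)

theorem proj_conjT (x : Rsub t σ) : X.proj (X.rot.conjT x) = X.proj x := by
  obtain ⟨f, hf, d, hd, l, e⟩ := X.exists_decomp x.2
  obtain ⟨j, hj⟩ := (isOfFinOrder_of_finite σ).mem_powers_iff_mem_zpowers.2 (inv_mem (npow_mem_zpowers σ l))
  simp only at hj
  refine Subtype.ext ?_
  rw [X.proj_val hf hd e]
  exact X.proj_val (inv_mem hf) hd (by rw [Rot.conjT_val, e, X.conj_decomp hf hd l, hj])

/-- inflation from `D` -/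
noncomputable def infl (η : IrrCharacter (Dsub t τ)) : IrrCharacter (Rsub t σ) :=
  ⟨_, isIrrCharacter_comp_surjective η.2 X.proj fun d => ⟨X.dincl d, X.proj_dincl d⟩⟩

theorem infl_apply (η : IrrCharacter (Dsub t τ)) (x : Rsub t σ) :
    (X.infl η : Rsub t σ → ℂ) x = (η : Dsub t τ → ℂ) (X.proj x) := rfl

theorem infl_base (η : IrrCharacter (Dsub t τ)) : X.rot.Base X.sigmaH (X.infl η) := fun x => by
  rw [infl_apply, infl_apply, map_mul, X.proj_sigma, one_mul]

theorem infl_tc (η : IrrCharacter (Dsub t τ)) : X.rot.tc (X.infl η) = X.infl η :=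
  Subtype.ext (funext fun x => by rw [Rot.tc_apply, infl_apply, infl_apply, X.proj_conjT])

theorem infl_inj {η η' : IrrCharacter (Dsub t τ)} (e : X.infl η = X.infl η') : η = η' :=
  Subtype.ext (funext fun d => by
    have := congrArg (fun a : IrrCharacter (Rsub t σ) => (a : Rsub t σ → ℂ) (X.dincl d)) e
    simpa [infl_apply, X.proj_dincl] using this)

theorem card_rotations : Nat.card (Rsub t σ) = Nat.card F * Nat.card (Dsub t τ) * (2 * h) := by
  have hbij : Function.Bijective fun p : (F × Dsub t τ) × Fin (2 * h) =>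
      (⟨(p.1.1 : G) * p.1.2 * σ ^ (p.2 : ℕ), X.mem_rsub.2
        ⟨_, mul_mem (X.fsub_le p.1.1.2) (dsub_le p.1.2.2), _, rfl⟩⟩ : Rsub t σ) := by
    constructor
    · rintro ⟨⟨f, d⟩, l⟩ ⟨⟨f', d'⟩, l'⟩ e
      obtain ⟨h1, h2, h3⟩ := X.decomp_unique f.2 f'.2 d.2 d'.2 (congrArg Subtype.val e)
      rw [pow_inj_mod, X.frame.orderσ, Nat.mod_eq_of_lt l.2, Nat.mod_eq_of_lt l'.2] at h3
      exact Prod.ext (Prod.ext (Subtype.ext h1) (Subtype.ext h2)) (Fin.ext h3)
    · intro x
      obtain ⟨f, hf, d, hd, l, e⟩ := X.exists_decomp x.2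
      refine ⟨((⟨f, hf⟩, ⟨d, hd⟩), ⟨l % (2 * h), Nat.mod_lt _ (by have := X.h_ne; omega)⟩), Subtype.ext ?_⟩
      show f * d * σ ^ (l % (2 * h)) = (x : G)
      rw [e, ← X.frame.orderσ, pow_mod_orderOf]
  rw [← Nat.card_eq_of_bijective _ hbij, Nat.card_prod, Nat.card_prod, Nat.card_fin]

theorem card_cent : Nat.card (centralizer ({t} : Set G)) = 2 * Nat.card (Rsub t σ) := by
  have hbij : Function.Bijective fun p : Bool × Rsub t σ =>
      (⟨cond p.1 τ 1 * (p.2 : G), mul_mem (by
        cases p.1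
        · exact one_mem _
        · exact mem_centralizer_singleton_iff.2 X.tau_comm.eq) (X.rsub_le p.2.2)⟩ : centralizer ({t} : Set G)) := by
    constructor
    · rintro ⟨b, x⟩ ⟨b', x'⟩ e
      have e' : cond b τ 1 * (x : G) = cond b' τ 1 * x' := congrArg Subtype.val e
      cases b <;> cases b' <;> simp only [cond_false, cond_true, one_mul] at e'
      · exact Prod.ext rfl (Subtype.ext e')
      · exact absurd (by rw [show τ = (x : G) * (x' : G)⁻¹ by rw [e']; group]; exact mul_mem x.2 (inv_mem x'.2)) X.tau_not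
      · exact absurd (by rw [show τ = (x' : G) * (x : G)⁻¹ by rw [← e']; group]; exact mul_mem x'.2 (inv_mem x.2)) X.tau_not
      · exact Prod.ext rfl (Subtype.ext (mul_left_cancel e'))
    · intro g
      rcases X.cover g.2 with hg | hg
      · exact ⟨(false, ⟨g, hg⟩), Subtype.ext (one_mul _)⟩
      · exact ⟨(true, ⟨τ * g, hg⟩), Subtype.ext (by
          show τ * (τ * (g : G)) = g
          rw [← mul_assoc, X.frame.sqτ, one_mul])⟩
  rw [← Nat.card_eq_of_bijective _ hbij, Nat.card_prod, Nat.card_eq_fintype_card (α := Bool), Fintype.card_bool]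

theorem t_decomp : t = 1 * 1 * σ ^ h := by rw [one_mul, one_mul, X.hσ]

/-- `C_G(t, a)` for a reflection `a` -/
theorem card_cent_pair (l : ℕ) :
    Nat.card (centralizer ({t, τ * σ ^ l} : Set G)) = 4 * Nat.card (Dsub t τ) := by
  set a := τ * σ ^ l with ha
  have hmem : ∀ g : G, g ∈ centralizer ({t, a} : Set G) ↔ Commute g t ∧ Commute g a := by
    intro g
    rw [mem_centralizer_iff]
    constructor
    · exact fun hh => ⟨(hh t (Set.mem_insert _ _)).symm, (hh a (Set.mem_insert_of_mem _ rfl)).symm⟩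
    · rintro ⟨h1, h2⟩ y (rfl | rfl)
      exacts [h1.eq.symm, h2.eq.symm]
  have ht' : Commute t a := (X.refl_comm l).symm
  have hda : ∀ d ∈ Dsub t τ, Commute d a := fun d hd =>
    (dsub_comm hd).mul_right ((X.sigma_central (dsub_le hd)).pow_left l).symm
  have hdt : ∀ d ∈ Dsub t τ, Commute d t := fun d hd => mem_centralizer_singleton_iff.1 (ocore_le t (dsub_le hd))
  have hbij : Function.Bijective fun p : (Bool × Bool) × Dsub t τ =>
      (⟨cond p.1.1 a 1 * ((p.2 : G) * cond p.1.2 t 1), (hmem _).2 ⟨by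
        refine Commute.mul_left ?_ (Commute.mul_left (hdt _ p.2.2) ?_) <;> cases p.1.1 <;> cases p.1.2 <;>
          first | exact Commute.one_left _ | exact X.refl_comm l | exact Commute.refl _,
        by
        refine Commute.mul_left ?_ (Commute.mul_left (hda _ p.2.2) ?_) <;> cases p.1.1 <;> cases p.1.2 <;>
          first | exact Commute.one_left _ | exact ht' | exact Commute.refl _⟩⟩ :
        centralizer ({t, a} : Set G)) := by
    have hH : ∀ (d : Dsub t τ) (b : Bool), (d : G) * cond b t 1 ∈ Rsub t σ := fun d b =>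
      mul_mem (ocore_le_rsub (dsub_le d.2)) (by cases b <;> [exact one_mem _; exact X.t_mem])
    have haH : a ∉ Rsub t σ := fun hh => X.tau_not (by
      have := mul_mem hh (inv_mem (pow_mem (sigma_mem (t := t) (σ := σ)) l))
      rwa [mul_inv_cancel_right] at this)
    constructor
    · rintro ⟨⟨b, c⟩, d⟩ ⟨⟨b', c'⟩, d'⟩ e
      have e' : cond b a 1 * ((d : G) * cond c t 1) = cond b' a 1 * ((d' : G) * cond c' t 1) :=
        congrArg Subtype.val e
      have hb : b = b' := by
        cases b <;> cases b' <;> simp only [cond_false, cond_true, one_mul] at e' ⊢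
        · exact absurd (by
            rw [show a = (d : G) * cond c t 1 * ((d' : G) * cond c' t 1)⁻¹ by rw [e']; group]
            exact mul_mem (hH d c) (inv_mem (hH d' c'))) haH
        · exact absurd (by
            rw [show a = (d' : G) * cond c' t 1 * ((d : G) * cond c t 1)⁻¹ by rw [← e']; group]
            exact mul_mem (hH d' c') (inv_mem (hH d c))) haH
      subst hb
      have e'' := mul_left_cancel e'
      have h1 : ∀ (z : G) (cc : Bool), z * cond cc t 1 = 1 * z * σ ^ (cond cc h 0) := fun z cc => by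
        cases cc <;> simp [X.hσ]
      rw [h1, h1] at e''
      obtain ⟨-, h2, h3⟩ := X.decomp_unique (one_mem _) (one_mem _) d.2 d'.2 e''
      refine Prod.ext (Prod.ext rfl ?_) (Subtype.ext h2)
      cases c <;> cases c' <;> simp only [cond_false, cond_true, pow_zero] at h3 ⊢
      · exact absurd h3.symm X.frame.sigma_h_ne
      · exact absurd h3 X.frame.sigma_h_ne
    · intro g
      obtain ⟨hgt, hga⟩ := (hmem g).1 g.2
      have key : ∀ x ∈ Rsub t σ, Commute x a → ∃ (d : Dsub t τ) (c : Bool), x = (d : G) * cond c t 1 := by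
        intro x hx hxa
        have hxτ : Commute τ x := by
          have h1 : Commute x (σ ^ l) := ((X.commute_sigma hx).pow_left l).symm
          have := hxa.mul_right h1.inv_right
          rw [ha, mul_inv_cancel_right] at this
          exact this.symm
        obtain ⟨d, hd, e | e⟩ := X.cent_tau hx hxτ
        · exact ⟨⟨d, hd⟩, false, by rw [e, cond_false, mul_one]⟩
        · exact ⟨⟨d, hd⟩, true, by rw [e, cond_true]⟩
      rcases X.cover (mem_centralizer_singleton_iff.2 hgt.eq) with hg | hg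
      · obtain ⟨d, c, e⟩ := key g hg hga
        exact ⟨((false, c), d), Subtype.ext (by show 1 * ((d : G) * cond c t 1) = g; rw [one_mul, ← e])⟩
      · have haa : a * a = 1 := X.frame.refl_sq l
        have hag : a * (g : G) ∈ Rsub t σ := by
          have hag' : ∀ y : G, a * y = τ * σ ^ l * τ⁻¹ * (τ * y) := fun y => by
            simp only [ha]; group
          rw [hag', X.frame.conjτ]
          exact mul_mem (inv_mem (pow_mem sigma_mem l)) hg
        obtain ⟨d, c, e⟩ := key _ hag ((Commute.refl a).mul_left hga)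
        exact ⟨((true, c), d), Subtype.ext (by
          show a * ((d : G) * cond c t 1) = g
          rw [← e, ← mul_assoc, haa, one_mul])⟩
  rw [← Nat.card_eq_of_bijective _ hbij, Nat.card_prod, Nat.card_prod, Nat.card_eq_fintype_card (α := Bool),
    Fintype.card_bool]

/-- **the index of `C(t)` is below `16 h² |F|²`** -/
theorem index_lt : (Nat.card G : ℚ) <
    16 * (h : ℚ) ^ 2 * (Nat.card F : ℚ) ^ 2 * Nat.card (centralizer ({t} : Set G)) := by
  have hστo : orderOf (σ * τ) = 2 := by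
    refine orderOf_eq_prime ?_ fun e => X.frame.not_zpow ?_
    · rw [sq, show σ * τ * (σ * τ) = σ * (τ * σ * τ⁻¹) * (τ * τ) by group, X.frame.rel, X.frame.sqτ, mul_inv_cancel,
        one_mul]
    · rw [show τ = σ⁻¹ by rw [← mul_one σ⁻¹, ← e]; group]
      exact inv_mem (mem_zpowers σ)
  have hconj : ∀ {a : G}, orderOf a = 2 → IsConj (σ ^ h) a := fun {a} ha => by
    rw [X.hσ]
    exact isConj_iff.2 (X.hyp.min.isConj_invol X.hyp.invol ha)
  obtain ⟨e, he1, he2, hdvd, -, hG⟩ :=
    order_formula X.frame X.hdih (hconj X.tau_order) (hconj hστo)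
  have c1 : Nat.card (centralizer ({t, τ} : Set G)) = 4 * Nat.card (Dsub t τ) := by
    simpa using X.card_cent_pair 0
  have c2 : Nat.card (centralizer ({t, σ * τ} : Set G)) = 4 * Nat.card (Dsub t τ) := by
    rw [show σ * τ = τ * σ ^ (2 * h - 1) from ?_]
    · exact X.card_cent_pair _
    have h2 : σ ^ (2 * h - 1) = σ⁻¹ := eq_inv_of_mul_eq_one_left (by
      rw [← pow_succ, show 2 * h - 1 + 1 = 2 * h by have := X.h_ne; omega]
      exact X.frame.pow_eq_one.2 dvd_rfl)
    rw [h2, show τ * σ⁻¹ = τ * σ⁻¹ * τ⁻¹ * τ by group, ← conj_inv, X.frame.rel, inv_inv]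
  rw [X.hσ, c1, c2, X.card_cent, X.card_rotations] at hG
  have hρ : rho e < 2 := by
    have h8 : (8 : ℤ) ∣ e - 1 := by
      obtain ⟨k, hk, rfl⟩ := X.frame.pow2
      obtain ⟨k, rfl⟩ := Nat.exists_eq_add_of_lt hk
      refine Dvd.dvd.trans ⟨2 ^ k, ?_⟩ hdvd
      push_cast
      ring
    have he : 9 ≤ e ∨ e ≤ -7 := by omega
    have hpos : (0 : ℚ) < ((e : ℚ) - 1) ^ 2 := by
      have : (e : ℚ) - 1 ≠ 0 := sub_ne_zero.2 (by exact_mod_cast he1)
      positivity
    rw [rho, div_lt_iff₀ hpos]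
    rcases he with he | he
    · have : (9 : ℚ) ≤ e := by exact_mod_cast he
      nlinarith
    · have : (e : ℚ) ≤ -7 := by exact_mod_cast he
      nlinarith
  have hD : (0 : ℚ) < (Nat.card (Dsub t τ) : ℚ) := by exact_mod_cast Nat.card_pos
  have hF : (0 : ℚ) < (Nat.card F : ℚ) := by exact_mod_cast Nat.card_pos
  have hh : (0 : ℚ) < (h : ℚ) := by exact_mod_cast Nat.pos_of_ne_zero X.h_ne
  rw [X.card_cent, X.card_rotations, hG]
  push_cast
  field_simp
  nlinarith [mul_pos (mul_pos hD hF) hh, mul_lt_mul_of_pos_right hρ (mul_pos (mul_pos hD hF) hh)]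

open scoped Classical in
/-- a base character fixed by `τ` is inflated from `D` -/
theorem exists_infl (a : IrrCharacter (Rsub t σ)) (ha : X.rot.Base X.sigmaH a) (hfix : X.rot.tc a = a) :
    ∃ η, a = X.infl η := by
  haveI := Fintype.ofFinite G
  haveI := Fintype.ofFinite (Rsub t σ)
  have R := X.rot
  have hpoint : ∀ C : ConjClasses (Rsub t σ), ConjClasses.map X.rot.conjT.toMonoidHom C = C →
      ∃ (d : Dsub t τ) (c : Bool), C = ConjClasses.mk (X.dincl d * cond c ⟨t, X.t_mem⟩ 1) := by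
    intro C hC
    obtain ⟨y, rfl⟩ := ConjClasses.exists_rep C
    let S := {z : Rsub t σ // IsConj y z}
    have hmap : ∀ z, IsConj y z → IsConj y (X.rot.conjT z) := fun z hz => by
      refine (ConjClasses.mk_eq_mk_iff_isConj.1 ?_).trans (X.rot.conjT.toMonoidHom.map_isConj hz)
      exact hC.symm
    let π : Equiv.Perm S :=
      { toFun := fun z => ⟨X.rot.conjT z.1, hmap _ z.2⟩
        invFun := fun z => ⟨X.rot.conjT z.1, hmap _ z.2⟩
        left_inv := fun z => Subtype.ext (X.rot.conjT_conjT _)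
        right_inv := fun z => Subtype.ext (X.rot.conjT_conjT _) }
    haveI : Fintype S := Fintype.ofFinite S
    have hπ : π ^ 2 ^ 1 = 1 := Equiv.ext fun z => Subtype.ext (X.rot.conjT_conjT z.1)
    have hodd : ¬ 2 ∣ Fintype.card S := by
      rw [← Nat.card_eq_fintype_card, card_isConj]
      set Cy := centralizer ({y} : Set (Rsub t σ))
      have h2 : zpowers X.sigmaH ≤ Cy := zpowers_le.2
        (mem_centralizer_singleton_iff.2 (mem_center_iff.1 X.sigmaH_center y).symm)
      obtain ⟨q, hq⟩ := Subgroup.card_dvd_of_le h2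
      rw [Nat.card_zpowers, ← Subgroup.orderOf_coe, show (X.sigmaH : G) = σ from rfl, X.frame.orderσ] at hq
      have h3 := Cy.index_mul_card
      rw [X.card_rotations, hq, ← mul_assoc, mul_comm Cy.index, mul_assoc, mul_comm _ (2 * h)] at h3
      have h4 : Cy.index ∣ Nat.card F * Nat.card (Dsub t τ) :=
        ⟨q, (Nat.eq_of_mul_eq_mul_left (by have := X.h_ne; omega : 0 < 2 * h) h3).symm⟩
      have ho : Odd (Nat.card F * Nat.card (Dsub t τ)) :=
        ((odd_ocore t).of_dvd_nat (Subgroup.card_dvd_of_le X.fsub_le)).mul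
          ((odd_ocore t).of_dvd_nat (Subgroup.card_dvd_of_le dsub_le))
      exact (Nat.not_even_iff_odd.2 (ho.of_dvd_nat h4)) ∘ even_iff_two_dvd.2
    haveI : Fact (Nat.Prime 2) := ⟨Nat.prime_two⟩
    obtain ⟨z, hz⟩ := Equiv.Perm.exists_fixed_point_of_prime hodd hπ
    have hzG : Commute τ (z.1 : G) := by
      have := congrArg (fun w : S => ((w.1 : Rsub t σ) : G)) hz
      exact mul_inv_eq_iff_eq_mul.1 this
    obtain ⟨d, hd, e⟩ := X.cent_tau z.1.2 hzG
    rcases e with e | e
    · exact ⟨⟨d, hd⟩, false, (ConjClasses.mk_eq_mk_iff_isConj.2 z.2).trans (by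
        rw [cond_false, mul_one]; exact congrArg _ (Subtype.ext e))⟩
    · exact ⟨⟨d, hd⟩, true, (ConjClasses.mk_eq_mk_iff_isConj.2 z.2).trans (congrArg _ (Subtype.ext e))⟩
  choose fd fc hfd using hpoint
  have hle : Nat.card {C : ConjClasses (Rsub t σ) // ConjClasses.map X.rot.conjT.toMonoidHom C = C} ≤
      Nat.card (IrrCharacter (Dsub t τ) × Bool) := by
    rw [Nat.card_prod, card_irr_eq_card_conjClasses, ← Nat.card_prod]
    refine Nat.card_le_card_of_injective (fun C => (ConjClasses.mk (fd C.1 C.2), fc C.1 C.2)) ?_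
    intro C C' e
    simp only [Prod.mk.injEq] at e
    refine Subtype.ext ((hfd C.1 C.2).trans (Eq.trans ?_ (hfd C'.1 C'.2).symm))
    rw [e.2, ConjClasses.mk_eq_mk_iff_isConj]
    obtain ⟨g, hg⟩ := isConj_iff.1 (ConjClasses.mk_eq_mk_iff_isConj.1 e.1)
    refine isConj_iff.2 ⟨X.dincl g, ?_⟩
    have hc : X.dincl g * cond (fc C'.1 C'.2) (⟨t, X.t_mem⟩ : Rsub t σ) 1 =
        cond (fc C'.1 C'.2) (⟨t, X.t_mem⟩ : Rsub t σ) 1 * X.dincl g := by
      refine Subtype.ext ?_
      cases fc C'.1 C'.2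
      · simp
      · exact mem_centralizer_singleton_iff.1 (ocore_le t (dsub_le g.2))
    rw [← hg, map_mul, map_mul, map_inv]
    have key : ∀ x k c : Rsub t σ, x * c = c * x → x * (k * c) * x⁻¹ = x * k * x⁻¹ * c := fun x k c hh => by
      calc x * (k * c) * x⁻¹ = x * k * x⁻¹ * (x * c * x⁻¹) := by group
        _ = _ := by rw [hh, mul_inv_cancel_right]
    exact key _ _ _ hc
  have hhh : h < 2 * h := by have := X.h_ne; omega
  have hfix2 : ∀ p : IrrCharacter (Dsub t τ) × Bool,
      X.rot.tc (X.rot.tw (X.infl p.1) (cond p.2 h 0)) = X.rot.tw (X.infl p.1) (cond p.2 h 0) := by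
    rintro ⟨η, b⟩
    cases b
    · rw [cond_false, X.rot.tc_tw _ (Nat.zero_le _), X.infl_tc, Nat.sub_zero, ← X.rot.tw_mod, Nat.mod_self]
    · rw [cond_true, X.rot.tc_tw _ hhh.le, X.infl_tc, show 2 * h - h = h by omega]
  let g : IrrCharacter (Dsub t τ) × Bool →
      {χ : IrrCharacter (Rsub t σ) // (χ : Rsub t σ → ℂ) ∘ X.rot.conjT = (χ : Rsub t σ → ℂ)} :=
    fun p => ⟨X.rot.tw (X.infl p.1) (cond p.2 h 0), congrArg Subtype.val (hfix2 p)⟩
  have hg : Function.Injective g := by
    rintro ⟨η, b⟩ ⟨η', b'⟩ e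
    have hlt : ∀ b : Bool, cond b h 0 < 2 * h := fun b => by cases b <;> [exact (by omega : 0 < 2 * h); exact hhh]
    obtain ⟨h1, h2⟩ := X.rot.tw_inj X.order_lam_sigma (X.infl_base η) (X.infl_base η') (hlt b) (hlt b')
      (congrArg Subtype.val e)
    refine Prod.ext (X.infl_inj h1) ?_
    cases b <;> cases b' <;> simp only [cond_false, cond_true] at h2 ⊢ <;> omega
  have hcard := hle
  rw [card_fixed_classes_aut] at hcard
  have hsurj := (Nat.bijective_iff_injective_and_card g).2 ⟨hg, le_antisymm (Nat.card_le_card_of_injective g hg) hcard⟩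
  obtain ⟨⟨η, b⟩, e⟩ := hsurj.2 ⟨a, congrArg Subtype.val hfix⟩
  have e' : X.rot.tw (X.infl η) (cond b h 0) = X.rot.tw a 0 := by rw [X.rot.tw_zero]; exact congrArg Subtype.val e
  refine ⟨η, (X.rot.tw_inj X.order_lam_sigma (X.infl_base η) ha ?_ (by omega) e').1.symm⟩
  cases b
  · show 0 < 2 * h
    omega
  · exact hhh

/-- **pairs of involutions against a linear character of `D`** -/
theorem pair_count [Fintype G] [Fintype (Rsub t σ)] [Fintype (IrrCharacter G)] (θ : IrrCharacter (Dsub t τ))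
    (hθ : ∀ d, (θ : Dsub t τ → ℂ) d * conj ((θ : Dsub t τ → ℂ) d) = 1) (hθ1 : (θ : Dsub t τ → ℂ) 1 = 1) :
    ∑ χ : IrrCharacter G, (X.rot.dm χ (X.infl θ) (X.rot.tw (X.infl θ) 1) : ℂ) * (χ : G → ℂ) t ^ 2 / (χ : G → ℂ) 1 =
      8 * (h : ℂ) ^ 2 * (Nat.card F : ℂ) ^ 2 * (Nat.card (centralizer ({t} : Set G)) : ℂ) / (Nat.card G : ℂ) := by
  classical
  set a := X.infl θ
  set b := X.rot.tw a 1
  set f : Rsub t σ → ℂ := fun x => (a : Rsub t σ → ℂ) x - (b : Rsub t σ → ℂ) x with hf
  have hR : ∀ χ : IrrCharacter G, ∑ y : Rsub t σ, f y * conj ((χ : G → ℂ) y) =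
      (Nat.card (Rsub t σ) : ℂ) * (X.rot.dm χ a b : ℂ) := fun χ => by
    have e := congrArg conj (X.rot.classInner_ind_irr χ a b)
    rw [classInner_indFun_right _ _ _ (isClassFunction_irr χ), map_intCast, classInner_conj, classInner,
      inv_mul_eq_iff_eq_mul₀ card_ne_zero'] at e
    exact e
  -- left side
  set Z : ℂ := Complex.exp (2 * Real.pi * Complex.I / (2 * h : ℕ)) with hZ
  have hL : ∑ y : Rsub t σ, f y * (classConst t t (y : G) : ℂ) = 4 * (h : ℂ) ^ 2 * (Nat.card F : ℂ) ^ 2 := by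
    have hiff : ∀ i : G, IsConj t i ↔ orderOf i = 2 := fun i => by
      refine ⟨fun hh => ?_, fun hh => isConj_iff.2 (X.hyp.min.isConj_invol X.hyp.invol hh)⟩
      obtain ⟨g, rfl⟩ := isConj_iff.1 hh
      rw [show g * t * g⁻¹ = MulAut.conj g t from rfl, MulEquiv.orderOf_eq, X.hyp.invol]
    have h1 : ∑ y : Rsub t σ, f y * (classConst t t (y : G) : ℂ) =
        ∑ p : G × G, if orderOf p.1 = 2 ∧ orderOf p.2 = 2 then extendByZero (Rsub t σ) f (p.1 * p.2) else 0 := by
      have hc : ∀ y : G, (classConst t t y : ℂ) =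
          ∑ p : G × G, if (orderOf p.1 = 2 ∧ orderOf p.2 = 2) ∧ p.1 * p.2 = y then 1 else 0 := fun y => by
        rw [classConst, Nat.card_eq_fintype_card, Fintype.card_subtype, Finset.sum_boole]
        congr 2
        ext p
        simp only [Finset.mem_filter, Finset.mem_univ, true_and, hiff, and_assoc]
      simp only [hc, Finset.mul_sum]
      rw [Finset.sum_comm]
      refine Finset.sum_congr rfl fun p _ => ?_
      by_cases hp : orderOf p.1 = 2 ∧ orderOf p.2 = 2
      · rw [if_pos hp]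
        simp only [hp, true_and, and_self]
        by_cases hm : p.1 * p.2 ∈ Rsub t σ
        · rw [extendByZero_mem _ _ hm, Finset.sum_eq_single (⟨p.1 * p.2, hm⟩ : Rsub t σ)]
          · rw [if_pos rfl, mul_one]
          · intro y _ hy
            rw [if_neg fun e => hy (Subtype.ext e.symm), mul_zero]
          · exact fun e => absurd (Finset.mem_univ _) e
        · rw [extendByZero_not_mem _ _ hm]
          exact Finset.sum_eq_zero fun y _ => by rw [if_neg fun e => hm (by rw [e]; exact y.2), mul_zero]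
      · rw [if_neg hp]
        exact Finset.sum_eq_zero fun y _ => by rw [if_neg fun e => hp e.1, mul_zero]
    rw [h1]
    let ι : F × Fin (2 * h) → G := fun q => τ * ((q.1 : G) * σ ^ (q.2 : ℕ))
    have hι : Function.Injective ι := by
      rintro ⟨x, l⟩ ⟨x', l'⟩ e
      have e' : (x : G) * 1 * σ ^ (l : ℕ) = (x' : G) * 1 * σ ^ (l' : ℕ) := by
        rw [mul_one, mul_one]; exact mul_left_cancel e
      obtain ⟨e1, -, e3⟩ := X.decomp_unique x.2 x'.2 (one_mem _) (one_mem _) e'
      rw [pow_inj_mod, X.frame.orderσ, Nat.mod_eq_of_lt l.2, Nat.mod_eq_of_lt l'.2] at e3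
      exact Prod.ext (Subtype.ext e1) (Fin.ext e3)
    have hprod : ∀ q q', ι q * ι q' = ((q.1 : G)⁻¹ * q'.1) * 1 * σ ^ (2 * h - (q.2 : ℕ) + q'.2) := by
      intro q q'
      have hc : (σ ^ (q.2 : ℕ))⁻¹ * (q'.1 : G) = q'.1 * (σ ^ (q.2 : ℕ))⁻¹ :=
        ((X.sigma_central (X.fsub_le q'.1.2)).pow_left _).inv_left.eq
      have hp : σ ^ (2 * h - (q.2 : ℕ)) = (σ ^ (q.2 : ℕ))⁻¹ := eq_inv_of_mul_eq_one_left (by
        rw [← pow_add, Nat.sub_add_cancel q.2.2.le]
        exact X.frame.pow_eq_one.2 dvd_rfl)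
      show τ * ((q.1 : G) * σ ^ (q.2 : ℕ)) * (τ * ((q'.1 : G) * σ ^ (q'.2 : ℕ))) = _
      rw [pow_add, hp, mul_one]
      calc τ * ((q.1 : G) * σ ^ (q.2 : ℕ)) * (τ * ((q'.1 : G) * σ ^ (q'.2 : ℕ)))
          = τ * (q.1 : G) * τ⁻¹ * (τ * σ ^ (q.2 : ℕ) * τ⁻¹) * (τ * τ) * ((q'.1 : G) * σ ^ (q'.2 : ℕ)) := by group
        _ = (q.1 : G)⁻¹ * ((σ ^ (q.2 : ℕ))⁻¹ * q'.1) * σ ^ (q'.2 : ℕ) := by
          rw [X.fsub_inv X.tau_order X.tau_ne X.tau_comm q.1.2, X.frame.conjτ, X.frame.sqτ]; group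
        _ = _ := by rw [hc]; group
    have hord : ∀ q, orderOf (ι q) = 2 := fun q => by
      refine orderOf_eq_prime ?_ fun e => X.tau_not ?_
      · rw [sq, hprod, inv_mul_cancel, one_mul, one_mul, Nat.sub_add_cancel q.2.2.le]
        exact X.frame.pow_eq_one.2 dvd_rfl
      · rw [mul_eq_one_iff_eq_inv.1 e]
        exact inv_mem (mul_mem (ocore_le_rsub (X.fsub_le q.1.2)) (pow_mem sigma_mem _))
    have hsupp : ∀ p : G × G, orderOf p.1 = 2 → orderOf p.2 = 2 → ∀ hm : p.1 * p.2 ∈ Rsub t σ,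
        X.lam ⟨p.1 * p.2, hm⟩ ≠ 1 → p.1 ∈ Set.range ι ∧ p.2 ∈ Set.range ι := by
      rintro ⟨i, j⟩ hi hj hm hl
      obtain ⟨n, -, hn⟩ := X.rot.exists_pow_eq hl
      simp only at hi hj hm hl hn ⊢
      have hii : i * i = 1 := by rw [← sq, ← hi, pow_orderOf_eq_one]
      have hjj : j * j = 1 := by rw [← sq, ← hj, pow_orderOf_eq_one]
      have hit : Commute i t := by
        have h0 : i * (i * j) * i⁻¹ = (i * j)⁻¹ := by
          rw [mul_inv_rev, inv_eq_of_mul_eq_one_right hii, inv_eq_of_mul_eq_one_right hjj, ← mul_assoc i i j, hii,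
            one_mul]
        have h2 : i * (i * j) ^ n * i⁻¹ = ((i * j) ^ n)⁻¹ := by rw [← conj_pow, h0, inv_pow]
        rw [hn, inv_eq_of_mul_eq_one_right (show t * t = 1 by rw [← sq, ← X.hyp.invol, pow_orderOf_eq_one])] at h2
        exact mul_inv_eq_iff_eq_mul.1 h2
      have hij : Commute (i * j) t := mem_centralizer_singleton_iff.1 (X.rsub_le hm)
      have hjt : Commute j t := by simpa using hit.inv_left.mul_left hij
      have hrefl : ∀ x : G, orderOf x = 2 → Commute x t → x ∈ Rsub t σ → x = t := fun x hx _ hxH =>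
        X.rot.invol_eq (u := ⟨x, hxH⟩) (by rw [Subgroup.orderOf_mk, hx])
      have hnotH : i ∉ Rsub t σ := fun hh => by
        have e1 := hrefl i hi hit hh
        have hjH : j ∈ Rsub t σ := by
          have := mul_mem (inv_mem hh) hm
          rwa [inv_mul_cancel_left] at this
        have e2 := hrefl j hj hjt hjH
        refine hl ?_
        rw [show (⟨i * j, hm⟩ : Rsub t σ) = 1 from Subtype.ext
          (show i * j = 1 by rw [e1, e2, ← sq, ← X.hyp.invol, pow_orderOf_eq_one]), map_one]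
      have hnotH' : j ∉ Rsub t σ := fun hh => hnotH (by
        have := mul_mem hm (inv_mem hh)
        rwa [mul_inv_cancel_right] at this)
      have key : ∀ x : G, orderOf x = 2 → Commute x t → x ∉ Rsub t σ → x ∈ Set.range ι := by
        intro x hx hxt hxn
        have hxH : τ * x ∈ Rsub t σ := (X.cover (mem_centralizer_singleton_iff.2 hxt.eq)).resolve_left hxn
        obtain ⟨g, hg, d, hd, l, e⟩ := X.exists_decomp hxH
        have hxx : x * x = 1 := by rw [← sq, ← hx, pow_orderOf_eq_one]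
        have hxe : x = τ * (g * d * σ ^ l) := by rw [← e, ← mul_assoc, X.frame.sqτ, one_mul]
        have h4 : g⁻¹ * (d * g * d⁻¹) * (d * d) * σ ^ 0 = 1 * 1 * σ ^ 0 := by
          rw [pow_zero, mul_one, mul_one, mul_one, ← hxx, hxe]
          have hc : (σ ^ l)⁻¹ * (g * d) = g * d * (σ ^ l)⁻¹ :=
            (((X.sigma_central (mul_mem (X.fsub_le hg) (dsub_le hd))).pow_left l).inv_left).eq
          calc g⁻¹ * (d * g * d⁻¹) * (d * d) = g⁻¹ * d * (g * d * (σ ^ l)⁻¹) * σ ^ l := by group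
            _ = g⁻¹ * d * (σ ^ l)⁻¹ * (g * d * σ ^ l) := by rw [← hc]; group
            _ = τ * (g * d * σ ^ l) * τ⁻¹ * (g * d * σ ^ l) := by rw [X.conj_decomp hg hd l]
            _ = τ * (g * d * σ ^ l) * (τ * (g * d * σ ^ l)) := by rw [X.frame.τ_inv]; group
        obtain ⟨-, h5, -⟩ := X.decomp_unique (mul_mem (inv_mem hg)
          (X.fsub_normal (mem_centralizer_singleton_iff.1 (ocore_le t (dsub_le hd))) hg)) (one_mem _)
          (mul_mem hd hd) (one_mem _) h4
        have hd1 : d = 1 := eq_one_of_sq (dsub_le hd) (by rw [sq, h5])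
        refine ⟨(⟨g, hg⟩, ⟨l % (2 * h), Nat.mod_lt _ (by have := X.h_ne; omega)⟩), ?_⟩
        show τ * (g * σ ^ (l % (2 * h))) = x
        rw [← X.frame.orderσ, pow_mod_orderOf, hxe, hd1, mul_one]
      exact ⟨key i hi hit hnotH, key j hj hjt hnotH'⟩
    rw [← Finset.sum_subset (s₁ := Finset.univ.image fun q : (F × Fin (2 * h)) × (F × Fin (2 * h)) => (ι q.1, ι q.2))
      (Finset.subset_univ _) fun p _ hp => ?_, Finset.sum_image fun q _ q' _ e => Prod.ext (hι (Prod.mk.inj e).1)
        (hι (Prod.mk.inj e).2)]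
    · have hval : ∀ q : (F × Fin (2 * h)) × (F × Fin (2 * h)),
          (if orderOf (ι q.1) = 2 ∧ orderOf (ι q.2) = 2 then extendByZero (Rsub t σ) f (ι q.1 * ι q.2) else 0) =
            1 - Z ^ (2 * h - (q.1.2 : ℕ)) * Z ^ (q.2.2 : ℕ) := fun q => by
        have hFm : ((q.1.1 : G)⁻¹ * q.2.1) ∈ F := mul_mem (inv_mem q.1.1.2) q.2.1.2
        have hm : ι q.1 * ι q.2 ∈ Rsub t σ := by
          rw [hprod, mul_one]
          exact mul_mem (ocore_le_rsub (X.fsub_le hFm)) (pow_mem sigma_mem _)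
        rw [if_pos ⟨hord _, hord _⟩, extendByZero_mem _ _ hm]
        show (a : Rsub t σ → ℂ) _ - (b : Rsub t σ → ℂ) _ = _
        rw [show b = X.rot.tw a 1 from rfl, Rot.tw_apply, infl_apply,
          show X.proj ⟨_, hm⟩ = 1 from Subtype.ext (X.proj_val hFm (one_mem _) (hprod _ _)), hθ1,
          X.lam_val (x := ⟨_, hm⟩) hFm (one_mem _) (hprod _ _), pow_one, mul_one, ← pow_add]
      rw [Finset.sum_congr rfl fun q _ => hval q]
      have hgeom : ∑ l : Fin (2 * h), Z ^ (l : ℕ) = 0 := by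
        rw [Fin.sum_univ_eq_sum_range (fun l => Z ^ l)]
        exact (zeta_prim X.h_ne).geom_sum_eq_zero (by have := X.h_ne; omega)
      simp only [Finset.sum_sub_distrib, Fintype.sum_prod_type, ← Finset.mul_sum, hgeom, Finset.sum_const,
        Finset.card_univ, Fintype.card_fin, nsmul_eq_mul, mul_zero, mul_one, sub_zero, smul_zero]
      simp only [Fintype.card_prod, Fintype.card_fin, ← Nat.card_eq_fintype_card (α := F)]
      push_cast
      ring
    · by_cases hp' : orderOf p.1 = 2 ∧ orderOf p.2 = 2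
      swap
      · rw [if_neg hp']
      rw [if_pos hp']
      by_cases hm : p.1 * p.2 ∈ Rsub t σ
      swap
      · rw [extendByZero_not_mem _ _ hm]
      rw [extendByZero_mem _ _ hm]
      by_cases hl : X.lam ⟨p.1 * p.2, hm⟩ = 1
      · show (a : Rsub t σ → ℂ) _ - (b : Rsub t σ → ℂ) _ = 0
        rw [show b = X.rot.tw a 1 from rfl, ← X.rot.tw_van a 0 1 _ hl, X.rot.tw_zero, sub_self]
      · obtain ⟨⟨q, hq⟩, ⟨q', hq'⟩⟩ := hsupp p hp'.1 hp'.2 hm hl
        exact absurd (Finset.mem_image.2 ⟨(q, q'), Finset.mem_univ _, Prod.ext hq hq'⟩) hp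
  have hM : (Nat.card (centralizer ({t} : Set G)) : ℂ) = 2 * (Nat.card (Rsub t σ) : ℂ) := by
    rw [X.card_cent]; push_cast; ring
  simp only [classConst_formula, finsum_eq_sum_of_fintype, card_isConj, Finset.mul_sum] at hL
  rw [Finset.sum_comm] at hL
  have hidx : ((centralizer ({t} : Set G)).index : ℂ) * (Nat.card (centralizer ({t} : Set G)) : ℂ) = (Nat.card G : ℂ) := by
    exact_mod_cast (centralizer ({t} : Set G)).index_mul_card
  set N : ℂ := ((centralizer ({t} : Set G)).index : ℂ)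
  have hrew : ∀ χ : IrrCharacter G, ∑ y : Rsub t σ, f y * (N * N / (Nat.card G : ℂ) *
      ((χ : G → ℂ) t * (χ : G → ℂ) t * conj ((χ : G → ℂ) y) / (χ : G → ℂ) 1)) =
      N * N / (Nat.card G : ℂ) * (Nat.card (Rsub t σ) : ℂ) *
        ((X.rot.dm χ a b : ℂ) * (χ : G → ℂ) t ^ 2 / (χ : G → ℂ) 1) := fun χ => by
    calc _ = N * N / (Nat.card G : ℂ) * ((χ : G → ℂ) t ^ 2 / (χ : G → ℂ) 1) *
          ∑ y : Rsub t σ, f y * conj ((χ : G → ℂ) y) := by
            rw [Finset.mul_sum]; exact Finset.sum_congr rfl fun y _ => by ring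
      _ = _ := by rw [hR]; ring
  rw [Finset.sum_congr rfl fun χ _ => hrew χ, ← Finset.mul_sum] at hL
  rw [eq_div_iff card_ne_zero']
  set S := ∑ χ : IrrCharacter G, (X.rot.dm χ a b : ℂ) * (χ : G → ℂ) t ^ 2 / (χ : G → ℂ) 1
  have hN0 : N ≠ 0 := fun e => card_ne_zero' (G := G) (by rw [← hidx, e, zero_mul])
  field_simp at hL
  rw [← hidx, hM] at hL ⊢
  apply mul_left_cancel₀ (mul_ne_zero hN0 (card_ne_zero' (G := Rsub t σ)))
  linear_combination (2 * (Nat.card (Rsub t σ) : ℂ)) * hL

end Data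

end CfsgLib.GW.CaseA.Inverted
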