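import Cfsg.Agent.Lib.Char.Induction
import Cfsg.Agent.Lib.Block.LinearTwist

/-!
# Case A, all inverted: induction from the subgroup of rotations

`H` has index two in `C(t)`, `lam : H →* ℂˣ` has odd kernel and image the roots of unity of order dividing
`2h`, inverted by `τ`.  Elements outside `ker lam` are not fused outside `C(t)`, so for class functions
vanishing on `ker lam` induction to `G` multiplies inner products as induction to `C(t)` does.
-/

set_option autoImplicit false
set_option linter.unusedSectionVars false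
set_option linter.style.haveILetI false

namespace CfsgLib.GW.CaseA.Inverted

open scoped ComplexConjugate
open Representation Cfsg CfsgLib.Char

universe u

variable {G : Type u} [Group G]

/-- the rotations `H` of `C(t)` with the character `lam` -/
structure Rot (t : G) (h : ℕ) (H : Subgroup G) (lam : H →* ℂˣ) (τ : G) : Prop where
  invol : orderOf t = 2
  pow2 : ∃ k : ℕ, 0 < k ∧ h = 2 ^ k
  mem : t ∈ H
  le : H ≤ Subgroup.centralizer ({t} : Set G)
  tau_mem : τ ∈ Subgroup.centralizer ({t} : Set G)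
  tau_sq : τ * τ = 1
  tau_not : τ ∉ H
  tau_norm : ∀ x ∈ H, τ * x * τ⁻¹ ∈ H
  cover : ∀ g ∈ Subgroup.centralizer ({t} : Set G), g ∈ H ∨ τ * g ∈ H
  odd_ker : Odd (Nat.card lam.ker)
  pow_eq : ∀ x : H, lam x ^ (2 * h) = 1
  inv : ∀ x : H, lam ⟨τ * x * τ⁻¹, tau_norm x x.2⟩ = (lam x)⁻¹

namespace Rot

variable {t τ : G} {h : ℕ} {H : Subgroup G} {lam : H →* ℂˣ} (R : Rot t h H lam τ)
include R

theorem tau_inv : τ⁻¹ = τ := inv_eq_of_mul_eq_one_right R.tau_sq

/-- conjugation by `τ` -/
def conjT : H ≃* H where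
  toFun x := ⟨τ * x * τ⁻¹, R.tau_norm x x.2⟩
  invFun x := ⟨τ * x * τ⁻¹, R.tau_norm x x.2⟩
  left_inv x := Subtype.ext (by
    show τ * (τ * x * τ⁻¹) * τ⁻¹ = x
    rw [R.tau_inv, show τ * (τ * (x : G) * τ) * τ = τ * τ * x * (τ * τ) by group, R.tau_sq, one_mul, mul_one])
  right_inv x := Subtype.ext (by
    show τ * (τ * x * τ⁻¹) * τ⁻¹ = x
    rw [R.tau_inv, show τ * (τ * (x : G) * τ) * τ = τ * τ * x * (τ * τ) by group, R.tau_sq, one_mul, mul_one])
  map_mul' x y := Subtype.ext (show τ * (x * y : G) * τ⁻¹ = τ * x * τ⁻¹ * (τ * y * τ⁻¹) by group)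

theorem conjT_val (x : H) : (R.conjT x : G) = τ * x * τ⁻¹ := rfl

theorem conjT_conjT (x : H) : R.conjT (R.conjT x) = x := R.conjT.left_inv x

theorem lam_conjT (x : H) : lam (R.conjT x) = (lam x)⁻¹ := R.inv x

theorem lam_val_ne_zero (x : H) : (lam x : ℂ) ≠ 0 := (lam x).ne_zero

theorem even_order {x : H} (hx : lam x ≠ 1) : 2 ∣ orderOf x := by
  obtain ⟨k, -, rfl⟩ := R.pow2
  have h1 : orderOf (lam x) ∣ 2 ^ (k + 1) := orderOf_dvd_of_pow_eq_one (by rw [pow_succ']; exact R.pow_eq x)
  obtain ⟨m, -, hm⟩ := (Nat.dvd_prime_pow Nat.prime_two).1 h1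
  refine dvd_trans ?_ (orderOf_map_dvd lam x)
  rw [hm]
  refine dvd_pow_self 2 fun h0 => hx ?_
  subst h0
  rwa [pow_zero, orderOf_eq_one_iff] at hm

variable [Finite G]

theorem odd_order {x : H} (hx : lam x = 1) : Odd (orderOf x) := by
  have h1 := R.odd_ker
  have : orderOf x ∣ Nat.card lam.ker := Subgroup.orderOf_dvd_natCard lam.ker (MonoidHom.mem_ker.2 hx)
  exact h1.of_dvd_nat this

/-- the only involution of `H` is `t` -/
theorem invol_eq {u : H} (hu : orderOf u = 2) : (u : G) = t := by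
  have hne : ∀ v : H, orderOf v = 2 → (lam v : ℂ) = -1 := fun v hv => by
    have h2 : (lam v : ℂ) ^ 2 = 1 := by
      rw [← Units.val_pow_eq_pow_val, ← map_pow, ← hv, pow_orderOf_eq_one, map_one, Units.val_one]
    rcases sq_eq_one_iff.1 h2 with e | e
    · exfalso
      have := R.odd_order (x := v) (Units.ext e)
      rw [hv] at this
      exact absurd this (by decide)
    · exact e
  set T : H := ⟨t, R.mem⟩
  have hT : orderOf T = 2 := by rw [Subgroup.orderOf_mk, R.invol]
  have hc : Commute u T := Subtype.ext (Subgroup.mem_centralizer_singleton_iff.1 (R.le u.2))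
  have hl : lam (u * T) = 1 := Units.ext (by rw [map_mul, Units.val_mul, hne u hu, hne T hT]; norm_num)
  have h2 : (u * T) ^ 2 = 1 := by
    rw [hc.mul_pow, show u ^ 2 = 1 by rw [← hu, pow_orderOf_eq_one],
      show T ^ 2 = 1 by rw [← hT, pow_orderOf_eq_one], one_mul]
  have h1 : u * T = 1 := orderOf_eq_one_iff.1 (Nat.eq_one_of_dvd_coprimes
    (Nat.coprime_two_right.2 (R.odd_order hl)) dvd_rfl (orderOf_dvd_of_pow_eq_one h2))
  have : u = T := by
    rw [mul_eq_one_iff_eq_inv.1 h1, inv_eq_of_mul_eq_one_right]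
    rw [← pow_two, ← hT, pow_orderOf_eq_one]
  exact congrArg Subtype.val this

/-- `t` is a power of every element outside the kernel -/
theorem exists_pow_eq {x : H} (hx : lam x ≠ 1) : ∃ n : ℕ, orderOf x = 2 * n ∧ (x : G) ^ n = t := by
  obtain ⟨n, hn⟩ := R.even_order hx
  refine ⟨n, hn, ?_⟩
  have hpos : 0 < orderOf x := orderOf_pos x
  have hu : orderOf (x ^ n) = 2 := by
    rw [orderOf_pow_of_dvd (by omega) ⟨2, by rw [hn, mul_comm]⟩, hn, Nat.mul_div_cancel _ (by omega : 0 < n)]
  have := R.invol_eq hu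
  rwa [Subgroup.coe_pow] at this

theorem mem_cent_of_conj {x : H} (hx : lam x ≠ 1) {g : G} (hg : g⁻¹ * x * g ∈ H)
    (hy : lam ⟨g⁻¹ * x * g, hg⟩ ≠ 1) : g ∈ Subgroup.centralizer ({t} : Set G) := by
  obtain ⟨n, hn, hxn⟩ := R.exists_pow_eq hx
  obtain ⟨m, hm, hym⟩ := R.exists_pow_eq hy
  have he : orderOf (⟨g⁻¹ * x * g, hg⟩ : H) = orderOf x := by
    rw [Subgroup.orderOf_mk, show g⁻¹ * (x : G) * g = MulAut.conj g⁻¹ (x : G) by simp [MulAut.conj_apply],
      MulEquiv.orderOf_eq, Subgroup.orderOf_coe]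
  have hmn : m = n := by omega
  rw [hmn] at hym
  refine Subgroup.mem_centralizer_singleton_iff.2 ?_
  have : g⁻¹ * t * g = t := by
    nth_rewrite 1 [← hxn]
    rw [← hym]
    show g⁻¹ * (x : G) ^ n * g = (g⁻¹ * x * g) ^ n
    simpa [MulAut.conj_apply] using map_pow (MulAut.conj g⁻¹) (x : G) n
  calc g * t = g * (g⁻¹ * t * g) := by rw [this]
    _ = t * g := by group

/-- `f` vanishes on the kernel -/
def Van (_ : Rot t h H lam τ) (f : H → ℂ) : Prop := ∀ x : H, lam x = 1 → f x = 0

variable [Fintype G] [Fintype H]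

theorem indFun_apply {f : H → ℂ} (hf : IsClassFunction H f) (hv : R.Van f) {x : H} (hx : lam x ≠ 1) :
    indFun H f x = f x + f (R.conjT x) := by
  classical
  have hterm : ∀ g : G, extendByZero H f (g⁻¹ * x * g) =
      (if g ∈ H then f x else 0) + (if τ * g ∈ H then f (R.conjT x) else 0) := by
    intro g
    by_cases h1 : g ∈ H
    · have h2 : τ * g ∉ H := fun h2 => R.tau_not (by simpa using H.mul_mem h2 (H.inv_mem h1))
      rw [if_pos h1, if_neg h2, add_zero, extendByZero_mem H f (H.mul_mem (H.mul_mem (H.inv_mem h1) x.2) h1)]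
      rw [show (⟨g⁻¹ * x * g, _⟩ : H) = (⟨g, h1⟩ : H)⁻¹ * x * (⟨g, h1⟩ : H)⁻¹⁻¹ from Subtype.ext (by simp)]
      exact hf _ _
    rw [if_neg h1, zero_add]
    by_cases h2 : τ * g ∈ H
    · rw [if_pos h2]
      have e : g⁻¹ * x * g = (τ * g)⁻¹ * (τ * x * τ⁻¹) * (τ * g) := by group
      rw [e, extendByZero_mem H f (H.mul_mem (H.mul_mem (H.inv_mem h2) (R.tau_norm x x.2)) h2)]
      rw [show (⟨(τ * g)⁻¹ * (τ * x * τ⁻¹) * (τ * g), _⟩ : H) =
        (⟨τ * g, h2⟩ : H)⁻¹ * R.conjT x * (⟨τ * g, h2⟩ : H)⁻¹⁻¹ from Subtype.ext (by simp [conjT_val, mul_assoc])]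
      exact hf _ _
    rw [if_neg h2]
    by_cases hm : g⁻¹ * x * g ∈ H
    · rw [extendByZero_mem H f hm]
      by_contra hne
      rcases R.cover g (R.mem_cent_of_conj hx hm fun e => hne (hv _ e)) with e | e
      exacts [h1 e, h2 e]
    · exact extendByZero_not_mem H f hm
  rw [indFun, Finset.sum_congr rfl fun g _ => hterm g, Finset.sum_add_distrib]
  have hcard : ∀ c : ℂ, ∑ g : G, (if g ∈ H then c else 0) = (Nat.card H : ℂ) * c := fun c => by
    rw [← Finset.sum_filter, Finset.sum_const, nsmul_eq_mul, ← Fintype.card_subtype, ← Nat.card_eq_fintype_card]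
  have hcard' : ∀ c : ℂ, ∑ g : G, (if τ * g ∈ H then c else 0) = (Nat.card H : ℂ) * c := fun c => by
    rw [← hcard c]
    exact Equiv.sum_comp (Equiv.mulLeft τ) fun g => if g ∈ H then c else 0
  rw [hcard, hcard', ← mul_add, ← mul_assoc, inv_mul_cancel₀ (card_ne_zero' (G := H)), one_mul]

/-- **isometry** -/
theorem classInner_ind {f f' : H → ℂ} (hf' : IsClassFunction H f') (hv : R.Van f)
    (hv' : R.Van f') :
    classInner (indFun H f) (indFun H f') = classInner f f' + classInner f (fun x => f' (R.conjT x)) := by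
  rw [classInner_indFun H f _ (isClassFunction_indFun H f')]
  simp only [classInner, ← mul_add, ← Finset.sum_add_distrib]
  congr 1
  refine Finset.sum_congr rfl fun x _ => ?_
  by_cases hx : lam x = 1
  · rw [hv x hx]
    ring
  · rw [R.indFun_apply hf' hv' hx, map_add, mul_add]

/-! ### Multiplicities -/

omit [Fintype G] [Finite G] in
/-- the multiplicity of `η` in the restriction of `χ` -/
theorem exists_mult (χ : IrrCharacter G) (η : IrrCharacter H) :
    ∃ m : ℕ, classInner (fun x : H => (χ : G → ℂ) x) (η : H → ℂ) = (m : ℂ) :=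
  classInner_char_irr_nat (isCharacter_comp (isCharacter_irr χ) H.subtype) η

/-- the multiplicity of `η` in the restriction of `χ` -/
noncomputable def mult (χ : IrrCharacter G) (η : IrrCharacter H) : ℕ := (R.exists_mult χ η).choose

omit [Fintype G] [Finite G] in
theorem mult_spec (χ : IrrCharacter G) (η : IrrCharacter H) :
    classInner (fun x : H => (χ : G → ℂ) x) (η : H → ℂ) = (R.mult χ η : ℂ) := (R.exists_mult χ η).choose_spec

/-- the difference of two multiplicities -/
noncomputable def dm (χ : IrrCharacter G) (a b : IrrCharacter H) : ℤ := (R.mult χ a : ℤ) - R.mult χ b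

/-- the conjugate by `τ` -/
noncomputable def tc (η : IrrCharacter H) : IrrCharacter H :=
  ⟨_, isIrrCharacter_comp_surjective η.2 R.conjT.toMonoidHom R.conjT.surjective⟩

omit [Fintype G] [Finite G] [Fintype H] in
theorem tc_apply (η : IrrCharacter H) (x : H) : (R.tc η : H → ℂ) x = (η : H → ℂ) (R.conjT x) := rfl

omit [Fintype G] [Finite G] [Fintype H] in
theorem tc_tc (η : IrrCharacter H) : R.tc (R.tc η) = η :=
  Subtype.ext (funext fun x => by rw [tc_apply, tc_apply, R.conjT_conjT])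

theorem mult_tc (χ : IrrCharacter G) (η : IrrCharacter H) : R.mult χ (R.tc η) = R.mult χ η := by
  have h1 := R.mult_spec χ (R.tc η)
  have h2 := R.mult_spec χ η
  have : classInner (fun x : H => (χ : G → ℂ) x) (R.tc η : H → ℂ) =
      classInner (fun x : H => (χ : G → ℂ) x) (η : H → ℂ) := by
    simp only [classInner]
    congr 1
    refine Fintype.sum_bijective R.conjT R.conjT.bijective _ _ fun x => ?_
    rw [tc_apply, conjT_val, isClassFunction_irr χ]
  rw [h1, h2] at this
  exact_mod_cast this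

theorem char_expand [Fintype (IrrCharacter H)] (χ : IrrCharacter G) (x : H) :
    (χ : G → ℂ) x = ∑ η : IrrCharacter H, (R.mult χ η : ℂ) * (η : H → ℂ) x := by
  have h := congrFun (classFun_expand (isClassFunction_of_isCharacter
    (isCharacter_comp (isCharacter_irr χ) H.subtype))) x
  simp only [Finset.sum_apply, Pi.smul_apply, smul_eq_mul] at h
  refine h.trans (Finset.sum_congr rfl fun η _ => ?_)
  rw [← R.mult_spec]
  rfl

theorem classInner_ind_irr (χ : IrrCharacter G) (a b : IrrCharacter H) :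
    classInner (χ : G → ℂ) (indFun H fun x => (a : H → ℂ) x - (b : H → ℂ) x) = (R.dm χ a b : ℂ) := by
  rw [classInner_indFun_right H _ _ (isClassFunction_irr χ)]
  rw [show (fun x => (a : H → ℂ) x - (b : H → ℂ) x) = (a : H → ℂ) - (b : H → ℂ) from rfl,
    classInner_sub_right, R.mult_spec, R.mult_spec, dm]
  push_cast
  rfl

open scoped Classical in
/-- **the inner product of two induced differences** -/
theorem sum_dm_mul [Fintype (IrrCharacter G)] (a b c e : IrrCharacter H)
    (h1 : ∀ x, lam x = 1 → (a : H → ℂ) x = (b : H → ℂ) x)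
    (h2 : ∀ x, lam x = 1 → (c : H → ℂ) x = (e : H → ℂ) x) :
    ∑ χ : IrrCharacter G, R.dm χ a b * R.dm χ c e =
      ((if a = c then 1 else 0) - (if a = e then 1 else 0) - (if b = c then 1 else 0) + (if b = e then 1 else 0)) +
      ((if a = R.tc c then 1 else 0) - (if a = R.tc e then 1 else 0) - (if b = R.tc c then 1 else 0) +
        (if b = R.tc e then 1 else 0)) := by
  have hexp : classInner (indFun H fun x => (a : H → ℂ) x - (b : H → ℂ) x)
      (indFun H fun x => (c : H → ℂ) x - (e : H → ℂ) x) =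
      ((∑ χ : IrrCharacter G, R.dm χ a b * R.dm χ c e : ℤ) : ℂ) := by
    rw [classInner_expand (isClassFunction_indFun H _), Int.cast_sum]
    refine Finset.sum_congr rfl fun χ _ => ?_
    rw [← classInner_conj (φ := (χ : G → ℂ)), classInner_conj (φ := indFun H fun x => (c : H → ℂ) x - _),
      R.classInner_ind_irr, R.classInner_ind_irr, map_intCast, Int.cast_mul]
  have hcf : IsClassFunction H fun x => (c : H → ℂ) x - (e : H → ℂ) x := fun x y => by
    simp only [isClassFunction_irr c x y, isClassFunction_irr e x y]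
  rw [R.classInner_ind hcf (fun x hx => sub_eq_zero.2 (h1 x hx)) (fun x hx => sub_eq_zero.2 (h2 x hx)),
    show (fun x => (fun x => (c : H → ℂ) x - (e : H → ℂ) x) (R.conjT x)) =
      (R.tc c : H → ℂ) - (R.tc e : H → ℂ) from rfl,
    show (fun x => (c : H → ℂ) x - (e : H → ℂ) x) = (c : H → ℂ) - (e : H → ℂ) from rfl,
    show (fun x => (a : H → ℂ) x - (b : H → ℂ) x) = (a : H → ℂ) - (b : H → ℂ) from rfl] at hexp
  simp only [classInner_sub_left, classInner_sub_right, classInner_irr] at hexp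
  have key : ∀ P : Prop, [Decidable P] → (if P then (1 : ℂ) else 0) = (((if P then 1 else 0 : ℤ)) : ℂ) :=
    fun P _ => by split_ifs <;> simp
  simp only [key, ← Int.cast_sub, ← Int.cast_add, Int.cast_inj] at hexp
  linarith

/-- the induced differences vanish at one -/
theorem sum_dm_degree [Fintype (IrrCharacter G)] (a b : IrrCharacter H)
    (h1 : ∀ x, lam x = 1 → (a : H → ℂ) x = (b : H → ℂ) x) :
    ∑ χ : IrrCharacter G, (R.dm χ a b : ℂ) * (χ : G → ℂ) 1 = 0 := by
  have h := congrFun (classFun_expand (isClassFunction_indFun H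
    fun x => (a : H → ℂ) x - (b : H → ℂ) x)) 1
  rw [indFun_one, h1 1 (map_one lam), sub_self, mul_zero] at h
  simp only [Finset.sum_apply, Pi.smul_apply, smul_eq_mul] at h
  rw [h]
  refine Finset.sum_congr rfl fun χ _ => ?_
  rw [← classInner_conj (φ := (χ : G → ℂ)), R.classInner_ind_irr, map_intCast]

/-! ### Twists -/

omit [Fintype G] [Finite G] [Fintype H] in
theorem exists_tw (η : IrrCharacter H) (i : ℕ) :
    ∃ ψ : IrrCharacter H, ∀ x, (ψ : H → ℂ) x = (lam x : ℂ) ^ i * (η : H → ℂ) x := by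
  obtain ⟨ψ, hψ⟩ := CfsgLib.Block.exists_linear_twist η (lam ^ i)
  exact ⟨ψ, fun x => by rw [hψ x, MonoidHom.pow_apply, Units.val_pow_eq_pow_val]⟩

/-- the twist by the `i`th power of `lam` -/
noncomputable def tw (η : IrrCharacter H) (i : ℕ) : IrrCharacter H := (R.exists_tw η i).choose

omit [Fintype G] [Finite G] [Fintype H] in
theorem tw_apply (η : IrrCharacter H) (i : ℕ) (x : H) :
    (R.tw η i : H → ℂ) x = (lam x : ℂ) ^ i * (η : H → ℂ) x := (R.exists_tw η i).choose_spec x

omit [Fintype G] [Finite G] [Fintype H] in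
theorem tw_van (η : IrrCharacter H) (i k : ℕ) (x : H) (hx : lam x = 1) :
    (R.tw η i : H → ℂ) x = (R.tw η k : H → ℂ) x := by
  rw [tw_apply, tw_apply, hx, Units.val_one, one_pow, one_pow]

omit [Fintype G] [Finite G] [Fintype H] in
theorem tw_zero (η : IrrCharacter H) : R.tw η 0 = η :=
  Subtype.ext (funext fun x => by rw [tw_apply, pow_zero, one_mul])

omit [Fintype G] [Finite G] [Fintype H] in
theorem tw_tw (η : IrrCharacter H) (i k : ℕ) : R.tw (R.tw η i) k = R.tw η (i + k) :=
  Subtype.ext (funext fun x => by rw [tw_apply, tw_apply, tw_apply, pow_add]; ring)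

omit [Fintype G] [Finite G] [Fintype H] in
theorem tw_mod (η : IrrCharacter H) (i : ℕ) : R.tw η (i % (2 * h)) = R.tw η i :=
  Subtype.ext (funext fun x => by
    rw [tw_apply, tw_apply]
    conv_rhs => rw [← Nat.mod_add_div i (2 * h), pow_add, pow_mul]
    rw [← Units.val_pow_eq_pow_val (lam x) (2 * h), R.pow_eq, Units.val_one, one_pow, mul_one])

omit [Fintype G] [Finite G] [Fintype H] in
theorem tc_tw (η : IrrCharacter H) {i : ℕ} (hi : i ≤ 2 * h) :
    R.tc (R.tw η i) = R.tw (R.tc η) (2 * h - i) :=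
  Subtype.ext (funext fun x => by
    rw [tc_apply, tw_apply, tw_apply, tc_apply, R.lam_conjT, Units.val_inv_eq_inv_val, inv_pow]
    congr 1
    refine inv_eq_of_mul_eq_one_right ?_
    rw [← pow_add, show i + (2 * h - i) = 2 * h by omega, ← Units.val_pow_eq_pow_val, R.pow_eq, Units.val_one])

/-! ### Base characters -/

/-- invariant under translation by `σ` -/
def Base (_ : Rot t h H lam τ) (σ : H) (η : IrrCharacter H) : Prop :=
  ∀ x : H, (η : H → ℂ) (σ * x) = (η : H → ℂ) x

variable {σ : H}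

omit [Fintype G] [Finite G] [Fintype H] in
theorem tw_inj (hord : orderOf (lam σ) = 2 * h) {a b : IrrCharacter H} (ha : R.Base σ a) (hb : R.Base σ b) {i k : ℕ}
    (hi : i < 2 * h) (hk : k < 2 * h) (he : R.tw a i = R.tw b k) : a = b ∧ i = k := by
  have hv : ∀ x, (lam x : ℂ) ^ i * (a : H → ℂ) x = (lam x : ℂ) ^ k * (b : H → ℂ) x := fun x => by
    rw [← R.tw_apply, ← R.tw_apply, he]
  have h1 := hv σ
  rw [← mul_one σ, ha 1, hb 1, mul_one] at h1
  have h2 := hv 1
  rw [map_one, Units.val_one, one_pow, one_pow, one_mul, one_mul] at h2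
  rw [← h2] at h1
  have h3 : lam σ ^ i = lam σ ^ k := Units.ext (by
    rw [Units.val_pow_eq_pow_val, Units.val_pow_eq_pow_val]
    exact mul_right_cancel₀ (irr_one_ne_zero a) h1)
  rw [pow_inj_mod, hord, Nat.mod_eq_of_lt hi, Nat.mod_eq_of_lt hk] at h3
  subst h3
  refine ⟨Subtype.ext (funext fun x => ?_), rfl⟩
  exact mul_left_cancel₀ (pow_ne_zero _ (R.lam_val_ne_zero x)) (hv x)

omit [Fintype G] [Fintype H] in
theorem exists_base (hcen : σ ∈ Subgroup.center H) (hσ : σ ^ (2 * h) = 1) (hord : orderOf (lam σ) = 2 * h)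
    (η : IrrCharacter H) : ∃ a, ∃ i < 2 * h, R.Base σ a ∧ η = R.tw a i := by
  obtain ⟨χ, n, ρ, hρ, rfl⟩ := η
  haveI : NeZero (2 * h) := ⟨by obtain ⟨k, -, rfl⟩ := R.pow2; positivity⟩
  obtain ⟨c, hc⟩ := exists_central_hom ρ
  have hmul : ∀ x, ρ.character (σ * x) = (c ⟨σ, hcen⟩ : ℂ) * ρ.character x := fun x => by
    show LinearMap.trace ℂ _ (ρ (σ * x)) = _ * LinearMap.trace ℂ _ (ρ x)
    rw [map_mul, show ρ σ = (c ⟨σ, hcen⟩ : ℂ) • LinearMap.id from hc ⟨σ, hcen⟩, smul_mul_assoc, map_smul,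
      smul_eq_mul]
    rfl
  have hc1 : (c ⟨σ, hcen⟩ : ℂ) ^ (2 * h) = 1 := by
    rw [← Units.val_pow_eq_pow_val, ← map_pow, show (⟨σ, hcen⟩ : Subgroup.center H) ^ (2 * h) = 1 from
      Subtype.ext hσ, map_one, Units.val_one]
  have hprim : IsPrimitiveRoot (lam σ : ℂ) (2 * h) := by
    rw [← hord, ← orderOf_units]
    exact IsPrimitiveRoot.orderOf _
  obtain ⟨i, hi, hie⟩ := hprim.eq_pow_of_pow_eq_one hc1
  refine ⟨R.tw ⟨_, n, ρ, hρ, rfl⟩ (2 * h - i), i, hi, fun x => ?_, ?_⟩
  · rw [tw_apply, tw_apply, map_mul, Units.val_mul, mul_pow]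
    show _ * _ * ρ.character (σ * x) = _ * ρ.character x
    rw [hmul, ← hie]
    have : (lam σ : ℂ) ^ (2 * h - i) * (lam σ : ℂ) ^ i = 1 := by
      rw [← pow_add, Nat.sub_add_cancel hi.le, hprim.pow_eq_one]
    linear_combination ((lam x : ℂ) ^ (2 * h - i) * ρ.character x) * this
  · rw [tw_tw, Nat.sub_add_cancel hi.le, ← tw_mod, Nat.mod_self, tw_zero]

omit [Fintype G] [Finite G] [Fintype H] in
theorem base_tc (hst : R.conjT σ = σ⁻¹) {a : IrrCharacter H} (ha : R.Base σ a) : R.Base σ (R.tc a) := fun x => by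
  rw [tc_apply, tc_apply, map_mul, hst]
  nth_rewrite 2 [show R.conjT x = σ * (σ⁻¹ * R.conjT x) by group]
  rw [ha]

end Rot

end CfsgLib.GW.CaseA.Inverted
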