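import Cfsg.Agent.Lib.GW.CaseA.Local
import Cfsg.Agent.Lib.GW.CaseC
import Cfsg.Agent.Lib.GW.CaseA.Inverted.RotEngine
import Mathlib.Analysis.Complex.IsIntegral

/-!
# Case A, all inverted: the structure of `C(t)`

`C(t) = (F ⋊ D) S` with `F` abelian, inverted by the reflections, `D = C_O(τ)`, and the rotations central in
`H = O ⟨σ⟩`.
-/

set_option autoImplicit false
set_option linter.unusedSectionVars false
set_option linter.style.haveILetI false

open Subgroup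
open scoped Pointwise

namespace CfsgLib.GW.CaseA.Inverted

open CfsgLib.Block.Dihedral CfsgLib.Invol

universe u

variable {G : Type u} [Group G] [Finite G]

/-- the centraliser of `τ` in `O(C(t))` -/
def Dsub (t τ : G) : Subgroup G := Ocore t ⊓ centralizer ({τ} : Set G)

/-- the rotations -/
def Rsub (t σ : G) : Subgroup G := Ocore t ⊔ zpowers σ

/-- an abelian normal subgroup `F` of `C(t)` inside `O(C(t))`, self-centralising there and inverted by the other
involutions of `C(t)` -/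
structure Hyp (t : G) (F : Subgroup G) : Prop where
  min : Min G
  invol : orderOf t = 2
  eight : 8 ∣ Nat.card (centralizer ({t} : Set G))
  le : F ≤ Ocore t
  norm : centralizer ({t} : Set G) ≤ normalizer (F : Set G)
  comm : ∀ x ∈ F, ∀ y ∈ F, Commute x y
  inverted : ∀ a, orderOf a = 2 → a ≠ t → Commute a t → ∀ x ∈ F, a * x * a⁻¹ = x⁻¹
  selfCent : Ocore t ⊓ centralizer (F : Set G) ≤ F

/-- a frame at `t` in the case where all involutions invert -/
structure Data (t σ τ : G) (h : ℕ) (P : Sylow 2 G) (F : Subgroup G) : Prop where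
  hyp : Hyp t F
  frame : Frame P σ τ h
  hσ : σ ^ h = t
  hdih : Nonempty ((P : Subgroup G) ≃* DihedralGroup (2 * h))

theorem exists_data {t : G} {F : Subgroup G} (hH : Hyp t F) : ∃ σ τ h P, Data t σ τ h P F := by
  obtain ⟨P, σ, τ, h, D, hσ, hdih⟩ :=
    hH.min.exists_frame (hH.eight.trans (card_subgroup_dvd_card _)) hH.invol
  exact ⟨σ, τ, h, P, hH, D, hσ, hdih⟩

namespace Data

variable {t σ τ : G} {h : ℕ} {P : Sylow 2 G} {F : Subgroup G} (X : Data t σ τ h P F)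
include X

theorem comm_t {x : G} (hx : x ∈ (P : Subgroup G)) : Commute x t := X.hσ ▸ X.frame.J_comm hx

theorem sigma_comm : Commute σ t := X.comm_t X.frame.memσ

theorem tau_comm : Commute τ t := X.comm_t X.frame.memτ

theorem tau_order : orderOf τ = 2 :=
  orderOf_eq_prime (by rw [sq, X.frame.sqτ]) fun e => X.frame.not_zpow (e ▸ one_mem _)

theorem tau_ne : τ ≠ t := fun e => X.frame.not_zpow (by rw [e, ← X.hσ]; exact npow_mem_zpowers σ h)

theorem refl_order (l : ℕ) : orderOf (τ * σ ^ l) = 2 :=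
  orderOf_eq_prime (by rw [sq, X.frame.refl_sq]) fun e => X.frame.refl_not_rot l 0 (by rw [e, pow_zero])

theorem refl_ne (l : ℕ) : τ * σ ^ l ≠ t := fun e => X.frame.refl_not_rot l h (e.trans X.hσ.symm)

theorem refl_comm (l : ℕ) : Commute (τ * σ ^ l) t := X.tau_comm.mul_left (X.sigma_comm.pow_left l)

/-! ### The abelian subgroup `F` -/

theorem fsub_le : F ≤ Ocore t := X.hyp.le

theorem fsub_comm {x y : G} (hx : x ∈ F) (hy : y ∈ F) : Commute x y := X.hyp.comm x hx y hy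

theorem fsub_inv {a : G} (ha : orderOf a = 2) (hne : a ≠ t) (hc : Commute a t) {x : G} (hx : x ∈ F) :
    a * x * a⁻¹ = x⁻¹ := X.hyp.inverted a ha hne hc x hx

theorem fsub_normal {g : G} (hg : Commute g t) {x : G} (hx : x ∈ F) : g * x * g⁻¹ ∈ F :=
  (mem_normalizer_iff.1 (X.hyp.norm (mem_centralizer_singleton_iff.2 hg.eq)) x).1 hx

theorem mem_fsub_of_commute {x : G} (hx : x ∈ Ocore t) (hc : ∀ f ∈ F, Commute f x) : x ∈ F :=
  X.hyp.selfCent ⟨hx, mem_centralizer_iff.2 fun f hf => (hc f hf).eq⟩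

omit X in
theorem ocore_conj_mem {g x : G} (hg : Commute g t) (hx : x ∈ Ocore t) : g * x * g⁻¹ ∈ Ocore t :=
  (mem_normalizer_iff.1 (centralizer_le_normalizer_ocore t (mem_centralizer_singleton_iff.2 hg.eq)) x).1 hx

omit X in
theorem ocore_odd {x : G} (hx : x ∈ Ocore t) : Odd (orderOf x) := CaseB.orderOf_odd_of_mem (odd_ocore t) hx

omit X in
theorem eq_one_of_sq {x : G} (hx : x ∈ Ocore t) (h2 : x ^ 2 = 1) : x = 1 :=
  orderOf_eq_one_iff.1 (Nat.eq_one_of_dvd_coprimes (Nat.coprime_two_right.2 (ocore_odd hx)) dvd_rfl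
    (orderOf_dvd_of_pow_eq_one h2))

/-- conjugating by two reflections: their product moves `O` inside the centraliser of `F` -/
theorem commutator_mem {a : G} (ha : orderOf a = 2) (hne : a ≠ t) (hc : Commute a t) {o : G} (ho : o ∈ Ocore t) :
    o⁻¹ * (a * o * a⁻¹) ∈ F := by
  refine X.mem_fsub_of_commute (mul_mem (inv_mem ho) (ocore_conj_mem hc ho)) fun f hf => ?_
  have hot : Commute o t := mem_centralizer_singleton_iff.1 (ocore_le t ho)
  have i1 := X.fsub_inv ha hne hc hf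
  set g := a * o * a⁻¹ with hg
  have h1 : g * f * g⁻¹ = o * f * o⁻¹ := by
    have h2 : a⁻¹ * f * a = f⁻¹ := by
      calc a⁻¹ * f * a = a⁻¹ * (a * f⁻¹ * a⁻¹) * a := by rw [X.fsub_inv ha hne hc (inv_mem hf), inv_inv]
        _ = f⁻¹ := by group
    calc g * f * g⁻¹ = a * (o * (a⁻¹ * f * a) * o⁻¹) * a⁻¹ := by rw [hg]; group
      _ = a * (o * f⁻¹ * o⁻¹) * a⁻¹ := by rw [h2]
      _ = (o * f⁻¹ * o⁻¹)⁻¹ := X.fsub_inv ha hne hc (X.fsub_normal hot (inv_mem hf))
      _ = o * f * o⁻¹ := by group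
  show f * (o⁻¹ * g) = o⁻¹ * g * f
  calc f * (o⁻¹ * g) = o⁻¹ * (o * f * o⁻¹) * g := by group
    _ = o⁻¹ * (g * f * g⁻¹) * g := by rw [h1]
    _ = o⁻¹ * g * f := by group

omit X in
theorem dsub_le : Dsub t τ ≤ Ocore t := inf_le_left

omit X in
theorem dsub_comm {d : G} (hd : d ∈ Dsub t τ) : Commute d τ := mem_centralizer_singleton_iff.1 hd.2

/-- `O = F D` -/
theorem exists_fd {o : G} (ho : o ∈ Ocore t) : ∃ f ∈ F, ∃ d ∈ Dsub t τ, o = f * d := by
  set u := o⁻¹ * (τ * o * τ⁻¹) with hu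
  have huF := X.commutator_mem X.tau_order X.tau_ne X.tau_comm ho
  obtain ⟨m, hm⟩ : Odd (orderOf u) := ocore_odd (X.fsub_le huF)
  set g := u ^ (m + 1)
  have hgF : g ∈ F := pow_mem huF _
  have hg2 : g * g = u := by
    rw [← pow_add, show m + 1 + (m + 1) = orderOf u + 1 by omega, pow_succ, pow_orderOf_eq_one, one_mul]
  have hog : o * g ∈ Dsub t τ := by
    refine ⟨mul_mem ho (X.fsub_le hgF), mem_centralizer_singleton_iff.2 ?_⟩
    have h1 : τ * (o * g) * τ⁻¹ = o * g := by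
      calc τ * (o * g) * τ⁻¹ = o * u * (τ * g * τ⁻¹) := by rw [hu]; group
        _ = o * (g * g) * g⁻¹ := by rw [X.fsub_inv X.tau_order X.tau_ne X.tau_comm hgF, hg2]
        _ = o * g := by group
    exact (mul_inv_eq_iff_eq_mul.1 h1).symm
  have hot : Commute o t := mem_centralizer_singleton_iff.1 (ocore_le t ho)
  refine ⟨o * g⁻¹ * o⁻¹, X.fsub_normal hot (inv_mem hgF), o * g, hog, by group⟩

theorem eq_one_of_mem_both {x : G} (hf : x ∈ F) (hd : x ∈ Dsub t τ) : x = 1 := by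
  refine eq_one_of_sq (dsub_le hd) ?_
  have h1 := X.fsub_inv X.tau_order X.tau_ne X.tau_comm hf
  rw [(dsub_comm hd).symm.eq, mul_inv_cancel_right] at h1
  rw [sq]
  nth_rewrite 1 [h1]
  exact inv_mul_cancel x

/-- the rotations centralise `O` -/
theorem sigma_central {o : G} (ho : o ∈ Ocore t) : Commute σ o := by
  set a := τ * σ ^ 1
  have ha := X.refl_order 1
  have hσa : σ = τ * a := by rw [← mul_assoc, X.frame.sqτ, one_mul, pow_one]
  have hσF : ∀ f ∈ F, σ * f * σ⁻¹ = f := fun f hf => by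
    calc σ * f * σ⁻¹ = τ * (a * f * a⁻¹) * τ⁻¹ := by rw [hσa]; group
      _ = f := by
        rw [X.fsub_inv ha (X.refl_ne 1) (X.refl_comm 1) hf,
          X.fsub_inv X.tau_order X.tau_ne X.tau_comm (inv_mem hf), inv_inv]
  set c := o⁻¹ * (σ * o * σ⁻¹) with hc
  have hcF : c ∈ F := by
    have h1 := X.commutator_mem ha (X.refl_ne 1) (X.refl_comm 1) ho
    have h2 := X.commutator_mem X.tau_order X.tau_ne X.tau_comm (ocore_conj_mem (X.refl_comm 1) ho)
    have := mul_mem h1 h2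
    convert this using 1
    change c = o⁻¹ * (a * o * a⁻¹) * ((a * o * a⁻¹)⁻¹ * (τ * (a * o * a⁻¹) * τ⁻¹))
    rw [hc, hσa]
    group
  have key : ∀ k : ℕ, σ ^ k * o * (σ ^ k)⁻¹ = o * c ^ k := by
    intro k
    induction k with
    | zero => simp
    | succ k ih =>
      calc σ ^ (k + 1) * o * (σ ^ (k + 1))⁻¹ = σ * (σ ^ k * o * (σ ^ k)⁻¹) * σ⁻¹ := by
            rw [pow_succ']; group
        _ = σ * o * σ⁻¹ * (σ * c ^ k * σ⁻¹) := by rw [ih]; group
        _ = o * c * c ^ k := by rw [hσF _ (pow_mem hcF k), hc]; group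
        _ = o * c ^ (k + 1) := by rw [pow_succ', mul_assoc]
  have h2h := key (2 * h)
  rw [← X.frame.orderσ, pow_orderOf_eq_one, inv_one, mul_one, one_mul, X.frame.orderσ, left_eq_mul] at h2h
  obtain ⟨j, -, rfl⟩ := X.frame.pow2
  have hc1 : c = 1 := orderOf_eq_one_iff.1 (Nat.eq_one_of_dvd_coprimes
    (Nat.Coprime.pow_right (j + 1) (Nat.coprime_two_right.2 (ocore_odd (X.fsub_le hcF)))) dvd_rfl
    (orderOf_dvd_of_pow_eq_one (by rw [pow_succ']; exact h2h)))
  have := key 1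
  rw [hc1, pow_one, one_pow, mul_one] at this
  exact mul_inv_eq_iff_eq_mul.1 this

/-! ### The rotations -/

omit X in
theorem ocore_le_rsub : Ocore t ≤ Rsub t σ := le_sup_left

omit X in
theorem sigma_mem : σ ∈ Rsub t σ := mem_sup_right (mem_zpowers σ)

theorem mem_rsub {x : G} : x ∈ Rsub t σ ↔ ∃ o ∈ Ocore t, ∃ l : ℕ, x = o * σ ^ l := by
  constructor
  · intro hx
    have hn : zpowers σ ≤ normalizer (Ocore t : Set G) :=
      zpowers_le.2 (centralizer_le_normalizer_ocore t (mem_centralizer_singleton_iff.2 X.sigma_comm.eq))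
    have hx' : x ∈ ((Ocore t : Set G) * (zpowers σ : Set G)) := by
      rw [← coe_mul_of_right_le_normalizer_left _ _ hn]
      exact hx
    obtain ⟨o, ho, s, hs, rfl⟩ := Set.mem_mul.1 hx'
    obtain ⟨l, rfl⟩ := (isOfFinOrder_of_finite σ).mem_powers_iff_mem_zpowers.2 hs
    exact ⟨o, ho, l, rfl⟩
  · rintro ⟨o, ho, l, rfl⟩
    exact mul_mem (ocore_le_rsub ho) (pow_mem sigma_mem l)

/-- the decomposition of a rotation -/
theorem exists_decomp {x : G} (hx : x ∈ Rsub t σ) :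
    ∃ f ∈ F, ∃ d ∈ Dsub t τ, ∃ l : ℕ, x = f * d * σ ^ l := by
  obtain ⟨o, ho, l, rfl⟩ := X.mem_rsub.1 hx
  obtain ⟨f, hf, d, hd, rfl⟩ := X.exists_fd ho
  exact ⟨f, hf, d, hd, l, rfl⟩

theorem ocore_inf_sylow {x : G} (hx : x ∈ Ocore t) (hP : x ∈ (P : Subgroup G)) : x = 1 := by
  haveI : Fact (Nat.Prime 2) := ⟨Nat.prime_two⟩
  obtain ⟨k, hk⟩ := P.2 ⟨x, hP⟩
  have hk' : x ^ 2 ^ k = 1 := congrArg Subtype.val hk
  exact orderOf_eq_one_iff.1 (Nat.eq_one_of_dvd_coprimes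
    (Nat.Coprime.pow_right k (Nat.coprime_two_right.2 (ocore_odd hx))) dvd_rfl (orderOf_dvd_of_pow_eq_one hk'))

theorem decomp_unique {f f' d d' : G} {l l' : ℕ} (hf : f ∈ F) (hf' : f' ∈ F) (hd : d ∈ Dsub t τ)
    (hd' : d' ∈ Dsub t τ) (e : f * d * σ ^ l = f' * d' * σ ^ l') : f = f' ∧ d = d' ∧ σ ^ l = σ ^ l' := by
  have h1 : (f' * d')⁻¹ * (f * d) = σ ^ l' * (σ ^ l)⁻¹ := by
    calc (f' * d')⁻¹ * (f * d) = (f' * d')⁻¹ * (f * d * σ ^ l) * (σ ^ l)⁻¹ := by group
      _ = σ ^ l' * (σ ^ l)⁻¹ := by rw [e]; group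
  have hz : (f' * d')⁻¹ * (f * d) = 1 := X.ocore_inf_sylow
    (mul_mem (inv_mem (mul_mem (X.fsub_le hf') (dsub_le hd'))) (mul_mem (X.fsub_le hf) (dsub_le hd)))
    (h1 ▸ mul_mem (pow_mem X.frame.memσ _) (inv_mem (pow_mem X.frame.memσ _)))
  rw [hz, eq_comm, mul_inv_eq_one] at h1
  have h2 : f' * d' = f * d := inv_mul_eq_one.1 hz
  have h3 : f⁻¹ * f' = 1 := X.eq_one_of_mem_both (mul_mem (inv_mem hf) hf') (by
    rw [show f⁻¹ * f' = d * d'⁻¹ by
      calc f⁻¹ * f' = f⁻¹ * (f' * d') * d'⁻¹ := by group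
        _ = d * d'⁻¹ := by rw [h2]; group]
    exact mul_mem hd (inv_mem hd'))
  obtain rfl : f = f' := inv_mul_eq_one.1 h3
  exact ⟨rfl, (mul_left_cancel h2).symm, h1.symm⟩

theorem rsub_le : Rsub t σ ≤ centralizer ({t} : Set G) :=
  sup_le (ocore_le t) (zpowers_le.2 (mem_centralizer_singleton_iff.2 X.sigma_comm.eq))

theorem t_mem : t ∈ Rsub t σ := by
  have := pow_mem (sigma_mem (t := t) (σ := σ)) h
  rwa [X.hσ] at this

theorem commute_sigma {x : G} (hx : x ∈ Rsub t σ) : Commute σ x := by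
  obtain ⟨o, ho, l, rfl⟩ := X.mem_rsub.1 hx
  exact (X.sigma_central ho).mul_right (Commute.self_pow σ l)

theorem conj_decomp {f d : G} (hf : f ∈ F) (hd : d ∈ Dsub t τ) (l : ℕ) :
    τ * (f * d * σ ^ l) * τ⁻¹ = f⁻¹ * d * (σ ^ l)⁻¹ := by
  calc τ * (f * d * σ ^ l) * τ⁻¹ = τ * f * τ⁻¹ * (τ * d * τ⁻¹) * (τ * σ ^ l * τ⁻¹) := by group
    _ = f⁻¹ * d * (σ ^ l)⁻¹ := by
      rw [X.fsub_inv X.tau_order X.tau_ne X.tau_comm hf, (dsub_comm hd).symm.eq, mul_inv_cancel_right,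
        X.frame.conjτ]

theorem tau_norm {x : G} (hx : x ∈ Rsub t σ) : τ * x * τ⁻¹ ∈ Rsub t σ := by
  obtain ⟨f, hf, d, hd, l, rfl⟩ := X.exists_decomp hx
  rw [X.conj_decomp hf hd l]
  exact mul_mem (ocore_le_rsub (mul_mem (inv_mem (X.fsub_le hf)) (dsub_le hd))) (inv_mem (pow_mem sigma_mem l))

theorem tau_not : τ ∉ Rsub t σ := fun hτ => by
  obtain ⟨o, ho, l, e⟩ := X.mem_rsub.1 hτ
  have h1 : o = 1 := X.ocore_inf_sylow ho (by
    rw [show o = τ * (σ ^ l)⁻¹ by rw [e]; group]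
    exact mul_mem X.frame.memτ (inv_mem (pow_mem X.frame.memσ l)))
  rw [h1, one_mul] at e
  exact X.frame.not_zpow (e ▸ npow_mem_zpowers σ l)

theorem cover {g : G} (hg : g ∈ centralizer ({t} : Set G)) : g ∈ Rsub t σ ∨ τ * g ∈ Rsub t σ := by
  haveI : Fact (Nat.Prime 2) := ⟨Nat.prime_two⟩
  set C := centralizer ({t} : Set G)
  have hPC : (P : Subgroup G) ≤ C := fun x hx => mem_centralizer_singleton_iff.2 (X.comm_t hx).eq
  have hsup := X.hyp.min.ocore_sup_sylow X.hyp.invol (P.subtype hPC)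
  rw [Sylow.coe_subtype, map_subgroupOf_eq_of_le hPC] at hsup
  have hn : (P : Subgroup G) ≤ normalizer (Ocore t : Set G) := hPC.trans (centralizer_le_normalizer_ocore t)
  have hg' : g ∈ ((Ocore t : Set G) * ((P : Subgroup G) : Set G)) := by
    rw [← coe_mul_of_right_le_normalizer_left _ _ hn, hsup]
    exact hg
  obtain ⟨o, ho, s, hs, rfl⟩ := Set.mem_mul.1 hg'
  obtain ⟨l, e | e⟩ := X.frame.cases s hs
  · exact Or.inl (X.mem_rsub.2 ⟨o, ho, l, by rw [e]⟩)
  · refine Or.inr (X.mem_rsub.2 ⟨τ * o * τ⁻¹, ocore_conj_mem X.tau_comm ho, l, ?_⟩)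
    rw [e, X.frame.τ_inv]
    group

/-- the centraliser of `τ` among the rotations -/
theorem cent_tau {x : G} (hx : x ∈ Rsub t σ) (hc : Commute τ x) : ∃ d ∈ Dsub t τ, x = d ∨ x = d * t := by
  obtain ⟨f, hf, d, hd, l, rfl⟩ := X.exists_decomp hx
  have h1 := X.conj_decomp hf hd l
  rw [hc.eq, mul_inv_cancel_right] at h1
  obtain ⟨j, hj⟩ := (isOfFinOrder_of_finite σ).mem_powers_iff_mem_zpowers.2 (inv_mem (npow_mem_zpowers σ l))
  simp only at hj
  rw [← hj] at h1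
  obtain ⟨h2, -, h3⟩ := X.decomp_unique hf (inv_mem hf) hd hd h1
  have hf1 : f = 1 := eq_one_of_sq (X.fsub_le hf) (by rw [sq]; nth_rewrite 1 [h2]; exact inv_mul_cancel f)
  rw [hj] at h3
  refine ⟨d, hd, ?_⟩
  by_cases hl : σ ^ l = 1
  · exact Or.inl (by rw [hf1, hl, one_mul, mul_one])
  · refine Or.inr ?_
    have hdvd : h ∣ l := by
      by_contra hn
      exact (X.frame.sq_ne_iff l).2 hn (by nth_rewrite 1 [h3]; exact inv_mul_cancel _)
    rw [hf1, one_mul, X.frame.eq_J hl hdvd, X.hσ]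

omit X in
theorem zeta_prim {h : ℕ} (hh : h ≠ 0) :
    IsPrimitiveRoot (Complex.exp (2 * Real.pi * Complex.I / (2 * h : ℕ))) (2 * h) :=
  Complex.isPrimitiveRoot_exp _ (by omega)

omit X in
theorem zeta_pow {h : ℕ} (hh : h ≠ 0) {a b : ℕ} (e : a % (2 * h) = b % (2 * h)) :
    Complex.exp (2 * Real.pi * Complex.I / (2 * h : ℕ)) ^ a =
      Complex.exp (2 * Real.pi * Complex.I / (2 * h : ℕ)) ^ b := by
  have key : ∀ (z : ℂ) (n : ℕ), z ^ n = 1 → ∀ a : ℕ, z ^ a = z ^ (a % n) := fun z n hz a => by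
    conv_lhs => rw [← Nat.mod_add_div a n, pow_add, pow_mul, hz, one_pow, mul_one]
  rw [key _ _ (zeta_prim hh).pow_eq_one a, key _ _ (zeta_prim hh).pow_eq_one b, e]

theorem h_ne : h ≠ 0 := fun e => absurd X.frame.two_le (by omega)

/-- the exponent of the rotation part -/
noncomputable def expo (x : Rsub t σ) : ℕ :=
  (X.exists_decomp x.2).choose_spec.2.choose_spec.2.choose

/-- the part in `D` -/
noncomputable def dpart (x : Rsub t σ) : G := (X.exists_decomp x.2).choose_spec.2.choose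

theorem decomp_spec (x : Rsub t σ) :
    ∃ f ∈ F, X.dpart x ∈ Dsub t τ ∧ (x : G) = f * X.dpart x * σ ^ X.expo x :=
  ⟨_, (X.exists_decomp x.2).choose_spec.1, (X.exists_decomp x.2).choose_spec.2.choose_spec.1,
    (X.exists_decomp x.2).choose_spec.2.choose_spec.2.choose_spec⟩

theorem dpart_eq {x : Rsub t σ} {f d : G} {l : ℕ} (hf : f ∈ F) (hd : d ∈ Dsub t τ)
    (e : (x : G) = f * d * σ ^ l) : X.dpart x = d ∧ σ ^ X.expo x = σ ^ l := by
  obtain ⟨f', hf', hd', e'⟩ := X.decomp_spec x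
  exact (X.decomp_unique hf' hf hd' hd (e'.symm.trans e)).2

theorem mul_spec (x y : Rsub t σ) :
    X.dpart (x * y) = X.dpart x * X.dpart y ∧ σ ^ X.expo (x * y) = σ ^ (X.expo x + X.expo y) := by
  obtain ⟨f, hf, hd, e⟩ := X.decomp_spec x
  obtain ⟨f', hf', hd', e'⟩ := X.decomp_spec y
  set d := X.dpart x
  set d' := X.dpart y
  have hdt : Commute d t := mem_centralizer_singleton_iff.1 (ocore_le t (dsub_le hd))
  refine X.dpart_eq (mul_mem hf (X.fsub_normal hdt hf')) (mul_mem hd hd') ?_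
  rw [coe_mul, e, e', pow_add]
  have hc : σ ^ X.expo x * (f' * d') = f' * d' * σ ^ X.expo x :=
    ((X.sigma_central (mul_mem (X.fsub_le hf') (dsub_le hd'))).pow_left _).eq
  calc f * d * σ ^ X.expo x * (f' * d' * σ ^ X.expo y)
      = f * d * (σ ^ X.expo x * (f' * d')) * σ ^ X.expo y := by group
    _ = f * (d * f' * d⁻¹) * (d * d') * (σ ^ X.expo x * σ ^ X.expo y) := by rw [hc]; group

/-- the rotation character -/
noncomputable def lam : Rsub t σ →* ℂˣ :=
  MonoidHom.mk' (fun x => Units.mk0 (Complex.exp (2 * Real.pi * Complex.I / (2 * h : ℕ)) ^ X.expo x)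
      (pow_ne_zero _ (Complex.exp_ne_zero _))) fun x y => Units.ext (by
    have h1 := (X.mul_spec x y).2
    rw [pow_inj_mod, X.frame.orderσ] at h1
    show _ = _ * _
    simp only [Units.val_mk0]
    rw [← pow_add]
    exact zeta_pow X.h_ne h1)

theorem lam_val {x : Rsub t σ} {f d : G} {l : ℕ} (hf : f ∈ F) (hd : d ∈ Dsub t τ)
    (e : (x : G) = f * d * σ ^ l) :
    (X.lam x : ℂ) = Complex.exp (2 * Real.pi * Complex.I / (2 * h : ℕ)) ^ l := by
  have h1 := (X.dpart_eq hf hd e).2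
  rw [pow_inj_mod, X.frame.orderσ] at h1
  exact zeta_pow X.h_ne h1

/-- the projection to `D` -/
noncomputable def proj : Rsub t σ →* Dsub t τ :=
  MonoidHom.mk' (fun x => ⟨X.dpart x, (X.decomp_spec x).choose_spec.2.1⟩)
    fun x y => Subtype.ext (X.mul_spec x y).1

theorem proj_val {x : Rsub t σ} {f d : G} {l : ℕ} (hf : f ∈ F) (hd : d ∈ Dsub t τ)
    (e : (x : G) = f * d * σ ^ l) : (X.proj x : G) = d := (X.dpart_eq hf hd e).1

theorem rot : Rot t h (Rsub t σ) X.lam τ where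
  invol := X.hyp.invol
  pow2 := X.frame.pow2
  mem := X.t_mem
  le := X.rsub_le
  tau_mem := mem_centralizer_singleton_iff.2 X.tau_comm.eq
  tau_sq := X.frame.sqτ
  tau_not := X.tau_not
  tau_norm _ hx := X.tau_norm hx
  cover _ hg := X.cover hg
  odd_ker := by
    refine (odd_ocore t).of_dvd_nat ?_
    have hle : X.lam.ker ≤ (Ocore t).subgroupOf (Rsub t σ) := fun x hx => by
      obtain ⟨f, hf, d, hd, l, e⟩ := X.exists_decomp x.2
      have h1 := X.lam_val hf hd e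
      rw [MonoidHom.mem_ker.1 hx, Units.val_one, eq_comm, (zeta_prim X.h_ne).pow_eq_one_iff_dvd] at h1
      rw [mem_subgroupOf, e, X.frame.pow_eq_one.2 h1, mul_one]
      exact mul_mem (X.fsub_le hf) (dsub_le hd)
    refine (card_dvd_of_le hle).trans (dvd_of_eq ?_)
    exact Nat.card_congr (subgroupOfEquivOfLe ocore_le_rsub).toEquiv
  pow_eq x := Units.ext (by
    obtain ⟨f, hf, d, hd, l, e⟩ := X.exists_decomp x.2
    rw [Units.val_pow_eq_pow_val, X.lam_val hf hd e, pow_right_comm,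
      (zeta_prim X.h_ne).pow_eq_one, one_pow, Units.val_one])
  inv x := by
    refine eq_inv_of_mul_eq_one_left ?_
    rw [← map_mul]
    obtain ⟨f, hf, d, hd, l, e⟩ := X.exists_decomp x.2
    refine Units.ext ((X.lam_val (f := f⁻¹ * (d * f * d⁻¹)) (d := d * d) (l := 0) (mul_mem (inv_mem hf)
      (X.fsub_normal (mem_centralizer_singleton_iff.1 (ocore_le t (dsub_le hd))) hf)) (mul_mem hd hd) ?_).trans
      (by rw [pow_zero, Units.val_one]))
    show τ * (x : G) * τ⁻¹ * (x : G) = _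
    rw [e, X.conj_decomp hf hd l, pow_zero, mul_one]
    have hc : (σ ^ l)⁻¹ * (f * d) = f * d * (σ ^ l)⁻¹ :=
      (((X.sigma_central (mul_mem (X.fsub_le hf) (dsub_le hd))).pow_left l).inv_left).eq
    calc f⁻¹ * d * (σ ^ l)⁻¹ * (f * d * σ ^ l) = f⁻¹ * d * ((σ ^ l)⁻¹ * (f * d)) * σ ^ l := by group
      _ = f⁻¹ * (d * f * d⁻¹) * (d * d) := by rw [hc]; group

/-- `D` is not trivial -/
theorem dsub_ne_bot (hne : ∃ a x, orderOf a = 2 ∧ a ≠ t ∧ Commute a t ∧ x ∈ Ocore t ∧ x ≠ 1 ∧ Commute x a) :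
    Dsub t τ ≠ ⊥ := fun hbot => by
  obtain ⟨a, x, ha, hat, hc, hx, hx1, hxa⟩ := hne
  obtain ⟨f, hf, d, hd, rfl⟩ := X.exists_fd hx
  rw [hbot, mem_bot] at hd
  subst hd
  rw [mul_one] at hx1 hxa hx
  have h1 := X.fsub_inv ha hat hc hf
  rw [hxa.symm.eq, mul_inv_cancel_right] at h1
  exact hx1 (eq_one_of_sq hx (by rw [sq]; nth_rewrite 1 [h1]; exact inv_mul_cancel f))

/-- fusion in `D` -/
theorem dsub_fusion {d : G} (hd : d ∈ Dsub t τ) {k : G} (hk : IsConj d k)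
    (hkP : ∀ p ∈ (P : Subgroup G), Commute p k) : ∃ e ∈ Dsub t τ, e * d * e⁻¹ = k := by
  haveI : Fact (Nat.Prime 2) := ⟨Nat.prime_two⟩
  have hkt : Commute k t := by
    have := hkP (σ ^ h) (pow_mem X.frame.memσ h)
    rw [X.hσ] at this
    exact this.symm
  obtain ⟨g, hg⟩ := isConj_iff.1 hk
  have hko : Odd (orderOf k) := by
    rw [← hg, show g * d * g⁻¹ = MulAut.conj g d from rfl, MulEquiv.orderOf_eq]
    exact ocore_odd (dsub_le hd)
  have hkD : k ∈ Dsub t τ := ⟨mem_ocore X.hyp.min X.hyp.invol hkt hko,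
    mem_centralizer_singleton_iff.2 (hkP τ X.frame.memτ).symm.eq⟩
  have hPd : ∀ p ∈ (P : Subgroup G), Commute p d := fun p hp => by
    obtain ⟨l, e | e⟩ := X.frame.cases p hp
    · exact e ▸ (X.sigma_central (dsub_le hd)).pow_left l
    · exact e ▸ (dsub_comm hd).symm.mul_left ((X.sigma_central (dsub_le hd)).pow_left l)
  set C := centralizer ({k} : Set G)
  have hP1 : (P : Subgroup G) ≤ C := fun p hp => mem_centralizer_singleton_iff.2 (hkP p hp).eq
  have hP2 : ((g • P : Sylow 2 G) : Subgroup G) ≤ C := by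
    rw [Sylow.coe_subgroup_smul]
    rintro _ ⟨p, hp, rfl⟩
    refine mem_centralizer_singleton_iff.2 ?_
    show g * p * g⁻¹ * k = k * (g * p * g⁻¹)
    rw [← hg]
    calc g * p * g⁻¹ * (g * d * g⁻¹) = g * (p * d) * g⁻¹ := by group
      _ = g * (d * p) * g⁻¹ := by rw [(hPd p hp).eq]
      _ = g * d * g⁻¹ * (g * p * g⁻¹) := by group
  obtain ⟨c, hc⟩ := MulAction.exists_smul_eq C ((g • P).subtype hP2) (P.subtype hP1)
  have hn : ((c : G) * g) • P = P := by
    rw [mul_smul]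
    exact Sylow.subtype_injective (hP := by
      rintro _ ⟨q, hq, rfl⟩
      exact mul_mem (mul_mem c.2 (hP2 hq)) (inv_mem c.2)) (hQ := hP1)
      ((Sylow.smul_subtype hP2 c).symm.trans hc)
  set n := (c : G) * g with hndef
  have hck : (c : G) * k = k * c := mem_centralizer_singleton_iff.1 c.2
  have hnd : n * d * n⁻¹ = k := by
    calc n * d * n⁻¹ = c * (g * d * g⁻¹) * (c : G)⁻¹ := by rw [hndef]; group
      _ = k := by rw [hg, hck, mul_inv_cancel_right]
  have hnP : ∀ p, p ∈ (P : Subgroup G) ↔ n * p * n⁻¹ ∈ (P : Subgroup G) := fun p => by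
    conv_rhs => rw [← hn, Sylow.coe_subgroup_smul]
    exact ⟨fun hp => ⟨p, hp, rfl⟩, fun ⟨q, hq, e⟩ => by
      rwa [← (MulAut.conj n).injective (show MulAut.conj n q = MulAut.conj n p from e)]⟩
  -- `n` fixes `t`
  have hnt : n * t * n⁻¹ = t := by
    have htP : t ∈ (P : Subgroup G) := X.hσ ▸ pow_mem X.frame.memσ h
    have hmem : n * t * n⁻¹ ∈ (P : Subgroup G) := (hnP t).1 htP
    have hcen : ∀ p ∈ (P : Subgroup G), Commute p (n * t * n⁻¹) := fun p hp => by
      have hq : n⁻¹ * p * n ∈ (P : Subgroup G) := (hnP _).2 (by simpa [mul_assoc] using hp)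
      show p * (n * t * n⁻¹) = n * t * n⁻¹ * p
      calc p * (n * t * n⁻¹) = n * (n⁻¹ * p * n * t) * n⁻¹ := by group
        _ = n * (t * (n⁻¹ * p * n)) * n⁻¹ := by rw [(X.comm_t hq).eq]
        _ = n * t * n⁻¹ * p := by group
    obtain ⟨l, e | e⟩ := X.frame.cases _ hmem
    · have h2 : σ ^ l * σ ^ l = 1 := by
        rw [← e, show n * t * n⁻¹ * (n * t * n⁻¹) = n * (t * t) * n⁻¹ by group,
          show t * t = 1 by rw [← sq, ← X.hyp.invol, pow_orderOf_eq_one]]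
        group
      have h1 : σ ^ l ≠ 1 := fun h0 => invol_ne_one X.hyp.invol (conj_eq_one_iff.1 (e.trans h0))
      have hdvd : h ∣ l := by
        by_contra hn'
        exact (X.frame.sq_ne_iff l).2 hn' h2
      rw [e, X.frame.eq_J h1 hdvd, X.hσ]
    · exfalso
      have h1 := hcen σ X.frame.memσ
      rw [e] at h1
      have hrefl : τ * σ ^ l * σ * (τ * σ ^ l)⁻¹ = σ⁻¹ := by
        calc τ * σ ^ l * σ * (τ * σ ^ l)⁻¹ = τ * σ * τ⁻¹ := by group
          _ = σ⁻¹ := X.frame.rel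
      rw [← h1.eq, mul_inv_cancel_right] at hrefl
      have h2 : σ ^ 1 * σ ^ 1 = 1 := by rw [pow_one]; nth_rewrite 1 [hrefl]; exact inv_mul_cancel σ
      have h3 := Nat.le_of_dvd one_pos (Decidable.not_not.1 fun hn' => (X.frame.sq_ne_iff 1).2 hn' h2)
      exact absurd X.frame.two_le (by omega)
  have hnC : n ∈ centralizer ({t} : Set G) := mem_centralizer_singleton_iff.2 (mul_inv_eq_iff_eq_mul.1 hnt)
  have key : ∀ x ∈ Rsub t σ, x * d * x⁻¹ = k → ∃ e ∈ Dsub t τ, e * d * e⁻¹ = k := by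
    intro x hx e
    have h1 : X.proj (⟨x, hx⟩ * ⟨d, ocore_le_rsub (dsub_le hd)⟩ * (⟨x, hx⟩ : Rsub t σ)⁻¹) =
        X.proj ⟨x, hx⟩ * X.proj ⟨d, ocore_le_rsub (dsub_le hd)⟩ * (X.proj ⟨x, hx⟩)⁻¹ := by
      rw [map_mul, map_mul, map_inv]
    have h2 := congrArg Subtype.val h1
    rw [X.proj_val (f := 1) (l := 0) (one_mem _) hkD (by simpa using e), coe_mul, coe_mul, coe_inv,
      X.proj_val (x := ⟨d, ocore_le_rsub (dsub_le hd)⟩) (f := 1) (l := 0) (one_mem _) hd (by simp)] at h2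
    exact ⟨_, (X.proj ⟨x, hx⟩).2, h2.symm⟩
  rcases X.cover hnC with hx | hx
  · exact key n hx hnd
  · refine key (τ * n) hx ?_
    calc τ * n * d * (τ * n)⁻¹ = τ * (n * d * n⁻¹) * τ⁻¹ := by group
      _ = k := by rw [hnd, (hkP τ X.frame.memτ).eq, mul_inv_cancel_right]

end Data

end CfsgLib.GW.CaseA.Inverted
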